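import Groth.Agent.QCoh.CechComparison
import Mathlib.Algebra.Homology.HomologySequenceLemmas

/-!
# Leray's comparison is natural in endomorphisms of the sheaf
-/

universe u

open CategoryTheory CategoryTheory.Limits TopologicalSpace Opposite CategoryTheory.Abelian
open Groth.Agent.QCoh.Ab

namespace Groth.Agent.PnCoh

theorem exists_addEquiv_comm {A B C : Type*} [AddCommGroup A] [AddCommGroup B] [AddCommGroup C]
    (a : A →+ B) (c : A →+ C) (ha : Function.Surjective a)
    (hc : Function.Surjective c) (h : ∀ x, a x = 0 ↔ c x = 0) :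
    ∃ e : B ≃+ C, ∀ x, e (a x) = c x := by
  obtain ⟨f, hf⟩ : ∃ f : B →+ C, ∀ x, f (a x) = c x := by
    refine ⟨AddMonoidHom.liftOfSurjective a ha ⟨c, fun x hx => (h x).1 hx⟩, fun x => ?_⟩
    exact AddMonoidHom.liftOfRightInverse_comp_apply a _ _ ⟨c, fun x hx => (h x).1 hx⟩ x
  refine ⟨AddEquiv.ofBijective f ⟨(injective_iff_map_eq_zero f).2 fun b hb => ?_, fun z => ?_⟩, hf⟩
  · obtain ⟨x, rfl⟩ := ha b
    rw [hf] at hb
    exact (h x).2 hb
  · obtain ⟨x, rfl⟩ := hc z
    exact ⟨a x, hf x⟩

variable {X : TopCat.{u}} {ι : Type u} {U : ι → Opens X}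

theorem connecting_natural {T : ShortComplex (CohTop.Ab X)} (hT : T.ShortExact) (α : T ⟶ T) (n : ℕ)
    (x : CohTop.H T.X₃ n) :
    Sheaf.H.map α.τ₁ (n + 1) (connecting hT n x) = connecting hT n (Sheaf.H.map α.τ₃ n x) := by
  show (x.comp hT.extClass rfl).comp (Ext.mk₀ α.τ₁) (add_zero (n + 1)) =
    (x.comp (Ext.mk₀ α.τ₃) (add_zero n)).comp hT.extClass rfl
  rw [Ext.comp_assoc_of_third_deg_zero, ShortComplex.ShortExact.extClass_naturality hT hT α,
    Ext.comp_assoc_of_second_deg_zero]

/-- The map on Čech complexes of an endomorphism of short complexes. -/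
noncomputable def cochainSCMap {T : ShortComplex (CohTop.Ab X)} (α : T ⟶ T) :
    cochainSC U T ⟶ cochainSC U T where
  τ₁ := natCxMap U α.τ₁.hom
  τ₂ := natCxMap U α.τ₂.hom
  τ₃ := natCxMap U α.τ₃.hom
  comm₁₂ := by
    ext p : 1
    refine AddCommGrpCat.ext fun c => Subtype.ext <| funext₂ fun σ W => ?_
    exact congr($(congrArg (fun φ : T.X₁ ⟶ T.X₂ => φ.hom.app (op W.1)) α.comm₁₂) _)
  comm₂₃ := by
    ext p : 1
    refine AddCommGrpCat.ext fun c => Subtype.ext <| funext₂ fun σ W => ?_
    exact congr($(congrArg (fun φ : T.X₂ ⟶ T.X₃ => φ.hom.app (op W.1)) α.comm₂₃) _)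

/-- Leray's comparison, natural in endomorphisms of the sheaf. -/
theorem natCx_H_equiv_natural (hcov : ⨆ i, U i = ⊤) {P : CohTop.Ab X → Prop}
    (hP : SectionClass U P) (F : CohTop.Ab X) (hF : P F) (p : ℕ) :
    ∃ e : ((natCx F.obj U).homology p : AddCommGrpCat.{u}) ≃+ CohTop.H F p, ∀ (φ : F ⟶ F) x,
      e (HomologicalComplex.homologyMap (natCxMap U φ.hom) p x) = Sheaf.H.map φ p (e x) := by
  let e0 : ∀ G : CohTop.Ab X,
      CohTop.H G 0 ≃+ (natCx G.obj U).homology 0 := fun G =>
    (Sheaf.H.equiv₀ G isTerminalTop).trans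
      (AddEquiv.ofBijective (topToH0 U G.obj).hom (topToH0_bijective U G hcov))
  have hn : ∀ {G G' : CohTop.Ab X} (ψ : G ⟶ G') (y : CohTop.H G 0),
      HomologicalComplex.homologyMap (natCxMap U ψ.hom) 0 (e0 G y) =
        e0 G' (Sheaf.H.map ψ 0 y) := fun ψ y =>
    (ConcreteCategory.congr_hom (topToH0_naturality U ψ.hom) _).trans
      (congrArg (topToH0 U _) (Sheaf.H.equiv₀_naturality isTerminalTop ψ y))
  induction p using Nat.strong_induction_on generalizing F with
  | _ p ih =>
    match p with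
    | 0 =>
      refine ⟨(e0 F).symm, fun φ x => ?_⟩
      obtain ⟨y, rfl⟩ := (e0 F).surjective x
      rw [hn, AddEquiv.symm_apply_apply, AddEquiv.symm_apply_apply]
    | m + 1 =>
      let T : ShortComplex (CohTop.Ab X) :=
        ShortComplex.mk (Injective.ι F) (cokernel.π (Injective.ι F)) (cokernel.condition _)
      have hT : T.ShortExact :=
        { exact := ShortComplex.exact_of_g_is_cokernel _ (cokernelIsCokernel _) }
      have hinj : Injective T.X₂ := Injective.injective_under F
      have hC := cochainSC_shortExact U hT (hP.lift hT hF)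
      have hz : ∀ k, IsZero ((natCx T.X₂.obj U).homology (k + 1)) := fun k =>
        @isZero_natCx_homology_of_injective _ _ U T.X₂ hinj k
      have hv : ∀ k, Subsingleton (CohTop.H T.X₂ (k + 1)) := fun k => inferInstance
      have hij : (ComplexShape.up ℕ).Rel m (m + 1) := rfl
      have hsurj : Function.Surjective (hC.δ m (m + 1) hij) := fun x => by
        have h := (ShortComplex.ab_exact_iff _).1 (hC.homology_exact₁ m (m + 1) hij) x
          (@Subsingleton.elim _ (AddCommGrpCat.subsingleton_of_isZero (hz m)) _ _)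
        exact h
      have hker : ∀ y, hC.δ m (m + 1) hij y = 0 ↔
          ∃ z, HomologicalComplex.homologyMap (natCxMap U T.g.hom) m z = y := fun y => by
        refine ⟨fun h => (ShortComplex.ab_exact_iff _).1 (hC.homology_exact₃ m (m + 1) hij) y h, ?_⟩
        rintro ⟨z, rfl⟩
        exact ConcreteCategory.congr_hom (hC.comp_δ m (m + 1) hij) z
      have hext : ∀ φ : F ⟶ F, ∃ α : T ⟶ T, α.τ₁ = φ := fun φ => by
        let ψ : T.X₂ ⟶ T.X₂ := Injective.factorThru (φ ≫ Injective.ι F) (Injective.ι F)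
        have hψ : Injective.ι F ≫ ψ = φ ≫ Injective.ι F := Injective.comp_factorThru _ _
        exact ⟨{ τ₁ := φ, τ₂ := ψ
                 τ₃ := cokernel.map (Injective.ι F) (Injective.ι F) φ ψ hψ
                 comm₁₂ := hψ.symm
                 comm₂₃ := (cokernel.π_desc _ _ _).symm }, rfl⟩
      have hδ : ∀ (α : T ⟶ T) (y : ((natCx T.X₃.obj U).homology m : AddCommGrpCat.{u})),
          HomologicalComplex.homologyMap (natCxMap U α.τ₁.hom) (m + 1) (hC.δ m (m + 1) hij y) =
            hC.δ m (m + 1) hij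
              (HomologicalComplex.homologyMap (natCxMap U α.τ₃.hom) m y) := fun α y =>
        ConcreteCategory.congr_hom
          (HomologicalComplex.HomologySequence.δ_naturality (cochainSCMap α) hC hC m (m + 1) hij) y
      match m with
      | 0 =>
        obtain ⟨e, he⟩ := exists_addEquiv_comm ((hC.δ 0 1 hij).hom.comp (e0 T.X₃).toAddMonoidHom)
          (connecting hT 0) (hsurj.comp (e0 T.X₃).surjective) (connecting_surjective hT 0 (hv 0))
          fun x => by
            rw [connecting_eq_zero_iff]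
            refine Iff.trans (hker (e0 T.X₃ x)) ?_
            exact ⟨fun ⟨z, hz⟩ => ⟨(e0 T.X₂).symm z, (e0 T.X₃).injective <| by
              rw [← hn, AddEquiv.apply_symm_apply]; exact hz⟩,
              fun ⟨y, hy⟩ => ⟨e0 T.X₂ y, by rw [hn, hy]⟩⟩
        refine ⟨e, fun φ x => ?_⟩
        obtain ⟨α, rfl⟩ := hext φ
        obtain ⟨y, rfl⟩ := (hsurj.comp (e0 T.X₃).surjective) x
        refine (congrArg e (hδ α (e0 T.X₃ y))).trans ?_
        rw [hn]
        refine (he _).trans ((connecting_natural hT α 0 y).symm.trans ?_)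
        exact congrArg _ (he y).symm
      | m + 1 =>
        obtain ⟨e, he⟩ := ih (m + 1) (Nat.lt_succ_self _) T.X₃ (hP.quot hT hF hinj)
        have hinj' : Function.Injective (hC.δ (m + 1) (m + 2) hij) :=
          (injective_iff_map_eq_zero (hC.δ (m + 1) (m + 2) hij).hom).2 fun y hy => by
            obtain ⟨z, rfl⟩ := (hker y).1 hy
            rw [@Subsingleton.elim _ (AddCommGrpCat.subsingleton_of_isZero (hz m)) z 0, map_zero]; rfl
        let d' := AddEquiv.ofBijective (hC.δ (m + 1) (m + 2) hij).hom ⟨hinj', hsurj⟩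
        let c' := AddEquiv.ofBijective _ (connecting_bijective hT (m + 1) (hv m) (hv (m + 1)))
        refine ⟨(d'.symm.trans e).trans c', fun φ x => ?_⟩
        obtain ⟨α, rfl⟩ := hext φ
        obtain ⟨y, rfl⟩ := d'.surjective x
        have h : ∀ z, ((d'.symm.trans e).trans c') (d' z) = connecting hT (m + 1) (e z) := fun z =>
          congrArg (fun w => c' (e w)) (d'.symm_apply_apply z)
        refine (congrArg ((d'.symm.trans e).trans c') (hδ α y)).trans ?_
        refine (h _).trans ?_
        rw [he α.τ₃ y, ← connecting_natural hT α (m + 1) (e y), ← h y]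
        rfl

end Groth.Agent.PnCoh
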