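import Groth.Prelude.Def_Coh
import Mathlib.Algebra.Category.ModuleCat.Sheaf.LocallyFree

/-!
# The structure sheaf is quasi-coherent
-/

universe u

open AlgebraicGeometry CategoryTheory CategoryTheory.Limits

namespace Groth.Agent.PnCoh

theorem isQCoh_structureModule (X : Scheme.{u}) : Coh.IsQCoh (Coh.structureModule X) := by
  have e : SheafOfModules.free (R := X.ringCatSheaf) PUnit.{u + 1} ≅ Coh.structureModule X :=
    coproductUniqueIso fun _ : PUnit.{u + 1} => SheafOfModules.unit X.ringCatSheaf
  exact (SheafOfModules.isQuasicoherent X.ringCatSheaf).prop_of_iso e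
    (inferInstanceAs (SheafOfModules.free (R := X.ringCatSheaf) PUnit.{u + 1}).IsQuasicoherent)

end Groth.Agent.PnCoh
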