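import Groth.Agent.PnCoh.TwistSections
import Groth.Agent.PnCoh.Unit
import Groth.Agent.QCoh.Local

/-!
# `O(d)` is quasi-coherent when `Proj` is covered by degree-one basic opens
-/

universe u

open CategoryTheory AlgebraicGeometry TopologicalSpace Opposite

namespace Groth.Agent.PnCoh

variable {R A : Type u} [CommRing R] [CommRing A] [Algebra R A]
  {𝒜 : ℕ → Submodule R A} [GradedAlgebra 𝒜] {s : A}

theorem nonVan_image (U : (Proj 𝒜).Opens) (hU : NonVan (𝒜 := 𝒜) s U) (V : U.toScheme.Opens) :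
    NonVan (𝒜 := 𝒜) s (U.ι ''ᵁ V) :=
  fun x => hU ⟨x.1, U.ι_image_le V x.2⟩

/-- The global section `s ^ d` of the restriction. -/
noncomputable def twPowSections (hs : s ∈ 𝒜 1) (d : ℤ) (U : (Proj 𝒜).Opens)
    (hU : NonVan (𝒜 := 𝒜) s U) :
    (SheafOfModules.sections ((Twist.twist 𝒜 d).restrict U.ι)) :=
  ⟨fun V => twPow hs d (nonVan_image U hU V.unop), fun {_ _} _ => rfl⟩

/-- The trivialization morphism. -/
noncomputable def twTriv (hs : s ∈ 𝒜 1) (d : ℤ) (U : (Proj 𝒜).Opens)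
    (hU : NonVan (𝒜 := 𝒜) s U) :
    Coh.structureModule U.toScheme ⟶ (Twist.twist 𝒜 d).restrict U.ι :=
  (SheafOfModules.unitHomEquiv _).symm (twPowSections hs d U hU)

theorem isIso_twTriv (hs : s ∈ 𝒜 1) (d : ℤ) (U : (Proj 𝒜).Opens)
    (hU : NonVan (𝒜 := 𝒜) s U) : IsIso (twTriv hs d U hU) := by
  refine Scheme.Modules.Hom.isIso_iff_isIso_app.2 fun V => ?_
  refine (ConcreteCategory.isIso_iff_bijective _).2 ?_
  have h : ((twTriv hs d U hU).app V : _ → _) = fun r => triv hs d (nonVan_image U hU V) r := by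
    funext r
    refine Eq.trans (b := triv hs d (nonVan_image U hU V) ((U.ι.appIso V).inv.hom r)) rfl ?_
    rw [Scheme.Opens.ι_appIso]
    rfl
  rw [h]
  exact (triv hs d (nonVan_image U hU V)).bijective

theorem isQCoh_twist {κ : Type u} (f : κ → A) (hf : ∀ i, f i ∈ 𝒜 1)
    (hcov : ⨆ i, Proj.basicOpen 𝒜 (f i) = ⊤) (d : ℤ) : Coh.IsQCoh (Twist.twist 𝒜 d) := by
  refine QCoh.isQCoh_of_isOpenCover (fun i => Proj.basicOpen 𝒜 (f i)) hcov fun i => ?_
  have hU : NonVan (𝒜 := 𝒜) (f i) (Proj.basicOpen 𝒜 (f i)) := fun x => x.2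
  haveI := isIso_twTriv (hf i) d _ hU
  exact (QCoh.isQCoh_iff_iso (asIso (twTriv (hf i) d _ hU))).1 (isQCoh_structureModule _)

attribute [local instance] MvPolynomial.gradedAlgebra

theorem isQCoh_twist_mvPolynomial (ι : Type) (R : Type u) [CommRing R] (d : ℤ) :
    Coh.IsQCoh (Twist.twist (MvPolynomial.homogeneousSubmodule ι R) d) := by
  refine isQCoh_twist (fun i : ULift.{u} ι => MvPolynomial.X i.down)
    (fun i => mem_homogeneous_X _) ?_ d
  rw [← iSup_mOpen_single (ι := ι) (R := R)]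
  exact Equiv.ulift.iSup_comp (g := fun i : ι => mOpen R (Finsupp.single i 1))

end Groth.Agent.PnCoh
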