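import Groth.Agent.QCoh.Ab.Push
import Groth.Agent.PnCoh.CechNat
import Groth.Agent.QCoh.AffineCohom
import Groth.Agent.QCoh.Ab.Rpush

/-!
# Cohomology of a direct image, naturally in endomorphisms and linearly over the base
-/

universe u

open CategoryTheory CategoryTheory.Limits TopologicalSpace Opposite CategoryTheory.Abelian

namespace Groth.Agent.PnCoh

theorem exists_equiv_of_surjective {A B C : Type*} [AddCommGroup A] [AddCommGroup B]
    [AddCommGroup C] (a : A →+ B) (c : A →+ C) (ha : Function.Surjective a)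
    (hc : Function.Surjective c) (h : ∀ x, a x = 0 ↔ c x = 0) :
    ∃ e : B ≃+ C, ∀ x, e (a x) = c x := by
  have hk : a.ker = c.ker := AddSubgroup.ext h
  refine ⟨((QuotientAddGroup.quotientKerEquivOfSurjective a ha).symm.trans
    (QuotientAddGroup.quotientAddEquivOfEq hk)).trans
    (QuotientAddGroup.quotientKerEquivOfSurjective c hc), fun x => ?_⟩
  have h1 : (QuotientAddGroup.quotientKerEquivOfSurjective a ha).symm (a x) =
      (x : A ⧸ a.ker) := (AddEquiv.symm_apply_eq _).2 rfl
  rw [AddEquiv.trans_apply, AddEquiv.trans_apply, h1]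
  rfl

variable {X Y : TopCat.{u}} (f : X ⟶ Y)

/-- An isomorphism `Hⁱ(X, F) ≃ Hⁱ(Y, f_* F)` natural in the endomorphisms of `F`. -/
def NatPushEquiv (F : CohTop.Ab X) (i : ℕ) : Prop :=
  ∃ e : CohTop.H F i ≃+ CohTop.H ((CohTop.push f).obj F) i, ∀ (φ : F ⟶ F) (x : CohTop.H F i),
    e (Sheaf.H.map φ i x) = Sheaf.H.map ((CohTop.push f).map φ) i (e x)

/-- Global sections. -/
noncomputable def pushH0 (G : CohTop.Ab X) :
    CohTop.H G 0 ≃+ CohTop.H ((CohTop.push f).obj G) 0 :=
  (Sheaf.H.equiv₀ G isTerminalTop).trans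
    (Sheaf.H.equiv₀ ((CohTop.push f).obj G) isTerminalTop).symm

theorem pushH0_natural {G G' : CohTop.Ab X} (φ : G ⟶ G') (y : CohTop.H G 0) :
    pushH0 f G' (Sheaf.H.map φ 0 y) = Sheaf.H.map ((CohTop.push f).map φ) 0 (pushH0 f G y) :=
  ((Sheaf.H.equiv₀_symm_naturality isTerminalTop ((CohTop.push f).map φ)
    (Sheaf.H.equiv₀ G isTerminalTop y)).trans (congrArg _
      (Sheaf.H.equiv₀_naturality isTerminalTop φ y))).symm

variable {T : ShortComplex (CohTop.Ab X)}

theorem natPushEquiv_one (hT : T.ShortExact) (hT' : (T.map (CohTop.push f)).ShortExact)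
    (hext : ∀ φ : T.X₁ ⟶ T.X₁, ∃ α : T ⟶ T, α.τ₁ = φ)
    (hv : Subsingleton (CohTop.H T.X₂ 1))
    (hv' : Subsingleton (CohTop.H (T.map (CohTop.push f)).X₂ 1)) : NatPushEquiv f T.X₁ 1 := by
  obtain ⟨e, he⟩ := exists_equiv_of_surjective (QCoh.Ab.connecting hT 0)
    ((QCoh.Ab.connecting hT' 0).comp (pushH0 f T.X₃).toAddMonoidHom)
    (QCoh.Ab.connecting_surjective hT 0 hv)
    ((QCoh.Ab.connecting_surjective hT' 0 hv').comp (pushH0 f T.X₃).surjective) fun x => by
      rw [QCoh.Ab.connecting_eq_zero_iff]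
      refine Iff.trans ?_ (QCoh.Ab.connecting_eq_zero_iff hT' 0 (pushH0 f T.X₃ x)).symm
      refine ⟨fun ⟨y, hy⟩ => ⟨pushH0 f T.X₂ y, ?_⟩,
        fun ⟨z, hz⟩ => ⟨(pushH0 f T.X₂).symm z, (pushH0 f T.X₃).injective ?_⟩⟩
      · exact (pushH0_natural f T.g y).symm.trans (congrArg _ hy)
      · rw [pushH0_natural, AddEquiv.apply_symm_apply]
        exact hz
  refine ⟨e, fun φ x => ?_⟩
  obtain ⟨α, rfl⟩ := hext φ
  obtain ⟨y, rfl⟩ := QCoh.Ab.connecting_surjective hT 0 hv x
  refine (congrArg e (connecting_natural hT α 0 y)).trans ((he _).trans ?_)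
  refine (congrArg (QCoh.Ab.connecting hT' 0) (pushH0_natural f α.τ₃ y)).trans ?_
  refine ((connecting_natural hT' ((CohTop.push f).mapShortComplex.map α) 0
    (pushH0 f T.X₃ y)).symm).trans ?_
  exact congrArg (Sheaf.H.map ((CohTop.push f).map α.τ₁) 1) (he y).symm

theorem natPushEquiv_succ (hT : T.ShortExact) (hT' : (T.map (CohTop.push f)).ShortExact)
    (hext : ∀ φ : T.X₁ ⟶ T.X₁, ∃ α : T ⟶ T, α.τ₁ = φ) (n : ℕ)
    (h : Function.Bijective (QCoh.Ab.connecting hT n))
    (h' : Function.Bijective (QCoh.Ab.connecting hT' n))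
    (hn : NatPushEquiv f T.X₃ n) : NatPushEquiv f T.X₁ (n + 1) := by
  obtain ⟨e, he⟩ := hn
  refine ⟨((AddEquiv.ofBijective _ h).symm.trans e).trans (AddEquiv.ofBijective _ h'), fun φ x => ?_⟩
  obtain ⟨α, rfl⟩ := hext φ
  obtain ⟨y, rfl⟩ := h.2 x
  have hb : ∀ z, (AddEquiv.ofBijective (QCoh.Ab.connecting hT n) h).symm
      (QCoh.Ab.connecting hT n z) = z := fun z =>
    (AddEquiv.ofBijective (QCoh.Ab.connecting hT n) h).symm_apply_apply z
  show QCoh.Ab.connecting hT' n (e _) = Sheaf.H.map _ (n + 1) (QCoh.Ab.connecting hT' n (e _))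
  refine (congrArg (fun z => QCoh.Ab.connecting hT' n
    (e ((AddEquiv.ofBijective (QCoh.Ab.connecting hT n) h).symm z)))
    (connecting_natural hT α n y)).trans ?_
  refine ((congrArg (fun z => QCoh.Ab.connecting hT' n (e z)) (hb _)).trans
    (congrArg (QCoh.Ab.connecting hT' n) (he α.τ₃ y))).trans ?_
  refine (connecting_natural hT' ((CohTop.push f).mapShortComplex.map α) n (e y)).symm.trans ?_
  exact congrArg (fun z => Sheaf.H.map ((CohTop.push f).map α.τ₁) (n + 1)
    (QCoh.Ab.connecting hT' n (e z))) (hb y).symm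

/-- `Hⁱ(X, F) ≃ Hⁱ(Y, f_* F)` naturally, for a class of sheaves on which `f_*` is exact. -/
theorem H_push_equiv_natural_of_class (P : CohTop.Ab X → Prop)
    (hquot : ∀ {T : ShortComplex (CohTop.Ab X)}, T.ShortExact → P T.X₁ → Injective T.X₂ → P T.X₃)
    (hpush : ∀ {T : ShortComplex (CohTop.Ab X)}, T.ShortExact → P T.X₁ →
      (T.map (CohTop.push f)).ShortExact)
    (F : CohTop.Ab X) (hF : P F) (i : ℕ) : NatPushEquiv f F i := by
  induction i using Nat.strong_induction_on generalizing F with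
  | _ i ih =>
    match i with
    | 0 => exact ⟨pushH0 f F, fun φ x => pushH0_natural f φ x⟩
    | m + 1 =>
      let T : ShortComplex (CohTop.Ab X) :=
        ShortComplex.mk (Injective.ι F) (cokernel.π (Injective.ι F)) (cokernel.condition _)
      have hT : T.ShortExact :=
        { exact := ShortComplex.exact_of_g_is_cokernel _ (cokernelIsCokernel _) }
      have hinj : Injective T.X₂ := Injective.injective_under F
      have hQ : P T.X₃ := hquot hT hF hinj
      have hT' := hpush hT hF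
      have hinj' : Injective (T.map (CohTop.push f)).X₂ := SiteBase.injective_push f T.X₂
      have hv : ∀ k, Subsingleton (CohTop.H T.X₂ (k + 1)) := fun k => inferInstance
      have hv' : ∀ k, Subsingleton (CohTop.H (T.map (CohTop.push f)).X₂ (k + 1)) :=
        fun k => inferInstance
      have hext : ∀ φ : T.X₁ ⟶ T.X₁, ∃ α : T ⟶ T, α.τ₁ = φ := fun φ => by
        haveI := hinj
        haveI : Mono T.f := hT.mono_f
        have w : T.f ≫ (Injective.factorThru (φ ≫ T.f) T.f ≫ T.g) = 0 := by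
          rw [← Category.assoc, Injective.comp_factorThru, Category.assoc, T.zero, comp_zero]
        exact ⟨{ τ₁ := φ
                 τ₂ := Injective.factorThru (φ ≫ T.f) T.f
                 τ₃ := cokernel.desc (Injective.ι F) _ w
                 comm₁₂ := (Injective.comp_factorThru _ _).symm
                 comm₂₃ := (cokernel.π_desc (Injective.ι F) _ w).symm }, rfl⟩
      match m with
      | 0 => exact natPushEquiv_one f hT hT' hext (hv 0) (hv' 0)
      | m + 1 =>
        exact natPushEquiv_succ f hT hT' hext (m + 1)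
          (QCoh.Ab.connecting_bijective hT (m + 1) (hv m) (hv (m + 1)))
          (QCoh.Ab.connecting_bijective hT' (m + 1) (hv' m) (hv' (m + 1)))
          (ih (m + 1) (Nat.lt_succ_self _) T.X₃ hQ)

/-- `Hⁱ(X, F) ≃ Hⁱ(Y, f_* F)`, naturally in the endomorphisms of `F`. -/
theorem H_push_equiv_natural (S : QCoh.Ab.CoverSystem X) (hb : QCoh.Ab.PreimageBasis f S)
    (F : CohTop.Ab X) (hF : S.Acyclic F) (i : ℕ) : NatPushEquiv f F i :=
  H_push_equiv_natural_of_class f (fun G => S.Acyclic G)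
    (fun {T} hT h₁ h₂ => QCoh.Ab.Acyclic_X₃ S hT h₁
      fun _ _ _ U _ => @QCoh.Ab.acyclic_of_injective _ T.X₂ h₂ _ U)
    (fun hT h₁ => QCoh.Ab.push_shortExact f hT hb h₁) F hF i

/-- The case where the higher cohomology over preimages of small opens vanishes. -/
theorem H_push_equiv_natural_of_HU (B : Opens Y → Prop)
    (hB : ∀ (U : Opens Y) (y : Y), y ∈ U → ∃ W, W ≤ U ∧ y ∈ W ∧ B W)
    (F : CohTop.Ab X)
    (hF : ∀ W, B W → ∀ q, Subsingleton (CohTop.HU F (q + 1) ((Opens.map f).obj W))) (i : ℕ) :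
    NatPushEquiv f F i := by
  refine H_push_equiv_natural_of_class f
    (fun G => ∀ W, B W → ∀ q, Subsingleton (CohTop.HU G (q + 1) ((Opens.map f).obj W)))
    (fun {T} hT h₁ h₂ W hW q => SiteBase.subsingleton_HU_X₃ hT _ (q + 1) (h₁ W hW (q + 1))
      (haveI := h₂; SiteBase.subsingleton_HU_of_injective T.X₂ _ q))
    (fun {T} hT h₁ => ?_) F hF i
  have := QCoh.Ab.push_isRightAdjoint f
  have := hT.mono_f
  have : Mono (T.map (CohTop.push f)).f := inferInstanceAs (Mono ((CohTop.push f).map T.f))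
  have : Epi (T.map (CohTop.push f)).g := by
    refine (TopCat.Sheaf.isLocallySurjective_iff_epi _).1
      ((TopCat.Presheaf.isLocallySurjective_iff _).2 fun U t y hy => ?_)
    obtain ⟨W, hWU, hyW, hW⟩ := hB U y hy
    exact ⟨W, hWU, SiteBase.surjective_sections_of_HU_one hT _ (h₁ W hW 0) _, hyW⟩
  exact
    { exact := ShortComplex.exact_of_f_is_kernel _
        (KernelFork.mapIsLimit _ hT.fIsKernel (CohTop.push f)) }

end Groth.Agent.PnCoh

namespace Groth.Agent.PnCoh

open AlgebraicGeometry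

variable {X P : Scheme.{u}}

/-- Multiplication by a global function of the base, on a direct image. -/
theorem smulAb_push (i : X ⟶ P) (M : X.Modules) (r : Coh.Γtop P) :
    Coh.smulAb ((Coh.push i).obj M) r =
      (CohTop.push i.base).map (Coh.smulAb M (i.appTop.hom r)) := by
  ext U m
  exact congrArg (fun c => @HSMul.hSMul _ _ _ (@instHSMul _ _ (inferInstanceAs
      (SMul (X.ringCatSheaf.obj.obj ((Opens.map i.base).op.obj U))
        (M.val.obj ((Opens.map i.base).op.obj U))))) c m)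
    (ConcreteCategory.congr_hom (i.naturality (homOfLE (le_top : unop U ≤ ⊤)).op) r)

/-- A natural comparison is linear over the base ring. -/
theorem nonempty_linearEquiv_of_natPushEquiv (A : Type u) [CommRing A]
    [X.Over (Spec (CommRingCat.of A))] [P.Over (Spec (CommRingCat.of A))] (i : X ⟶ P)
    (hi : i ≫ (P ↘ Spec (CommRingCat.of A)) = X ↘ Spec (CommRingCat.of A))
    (M : X.Modules) (n : ℕ) (h : NatPushEquiv (Y := P.toPresheafedSpace.carrier) i.base (QCoh.abSheaf M) n) :
    Nonempty (Coh.HH X M n ≃ₗ[A] Coh.HH P ((Coh.push i).obj M) n) := by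
  obtain ⟨e, he⟩ := h
  refine ⟨AddEquiv.toLinearEquiv e fun a x => ?_⟩
  show e (Sheaf.H.map (Coh.smulAb M (Coh.toGlobal (X ↘ Spec (CommRingCat.of A)) a)) n x) =
    Sheaf.H.map (Coh.smulAb ((Coh.push i).obj M) (Coh.toGlobal (P ↘ Spec (CommRingCat.of A)) a)) n (e x)
  rw [smulAb_push]
  refine (he _ x).trans ?_
  refine congrArg (fun r => Sheaf.H.map ((CohTop.push i.base).map (Coh.smulAb M r)) n (e x)) ?_
  rw [← hi]
  rfl


/-- Cohomology along an affine morphism over the base ring, linearly. -/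
theorem exists_linearEquiv_push (A : Type u) [CommRing A] [X.Over (Spec (CommRingCat.of A))]
    [P.Over (Spec (CommRingCat.of A))] (i : X ⟶ P) [IsAffineHom i]
    (hi : i ≫ (P ↘ Spec (CommRingCat.of A)) = X ↘ Spec (CommRingCat.of A))
    {M : X.Modules} (hM : Coh.IsQCoh M) (n : ℕ) :
    Nonempty (Coh.HH X M n ≃ₗ[A] Coh.HH P ((Coh.push i).obj M) n) := by
  have hb : QCoh.Ab.PreimageBasis i.base (QCoh.stdCovers X) := fun U y hy => by
    obtain ⟨_, ⟨W, hW, rfl⟩, hyW, hWU⟩ := P.isBasis_affineOpens.exists_subset_of_mem_open hy U.2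
    exact ⟨W, hWU, hyW, hW.preimage i⟩
  exact nonempty_linearEquiv_of_natPushEquiv A i hi M n
    (H_push_equiv_natural i.base (QCoh.stdCovers X) hb (QCoh.abSheaf M)
      (QCoh.stdCovers_acyclic hM) n)
end Groth.Agent.PnCoh
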