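import Groth.Agent.PnCoh.TwistScalar

/-!
# Global sections of `O(d)` on projective space
-/

universe u

open CategoryTheory CategoryTheory.Limits AlgebraicGeometry MvPolynomial Opposite TopologicalSpace

namespace Groth.Agent.PnCoh

attribute [local instance] MvPolynomial.gradedAlgebra

variable {ι : Type} {R : Type u} [CommRing R] [Fintype ι] [Nonempty ι] {d : ℕ}

theorem globL_globalOf (a : homogeneousSubmodule ι R d) (i : ι) :
    globL (Twist.globalOf (homogeneousSubmodule ι R) a : TwTop ι R (d : ℤ)) i =
      toLaur ι R a.1 := by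
  have hr : IsRep (d : ℤ) (Finsupp.single i 1)
      (globRes (Twist.globalOf (homogeneousSubmodule ι R) a : TwTop ι R (d : ℤ)) _) a.1 0 := by
    refine ⟨⟨d, by simp, a.2⟩, fun x => ?_⟩
    show Localization.mk a.1 _ = Localization.mk a.1 _
    congr 1
  rw [globL, secTw_eq_of_isRep (single_one_ne_zero i) hr, zero_nsmul, neg_zero]
  exact mul_one _

theorem exists_globalOf_eq (s : TwTop ι R (d : ℤ)) :
    ∃ a : homogeneousSubmodule ι R d, Twist.globalOf (homogeneousSubmodule ι R) a = s := by
  classical
  obtain ⟨i⟩ := ‹Nonempty ι›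
  let a : MvPolynomial ι R := ∑ e ∈ (globL s i).coeff.support,
    monomial (e.mapRange Int.toNat rfl) ((globL s i).coeff e)
  have hp : ∀ e ∈ (globL s i).coeff.support,
      castExpo ι (e.mapRange Int.toNat rfl) = e ∧ (e.mapRange Int.toNat rfl).degree = d := by
    intro e he
    obtain ⟨h1, h2⟩ := globL_supp s i e (Finsupp.mem_support_iff.1 he)
    have h3 : castExpo ι (e.mapRange Int.toNat rfl) = e := by
      ext j
      have := h2 (Or.inr (by positivity)) j
      simp [castExpo_apply, Finsupp.mapRange_apply]
      omega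
    refine ⟨h3, ?_⟩
    have h4 := sum_castExpo (e.mapRange Int.toNat rfl)
    rw [h3, h1] at h4
    exact_mod_cast h4.symm
  have ha : a ∈ homogeneousSubmodule ι R d :=
    Submodule.sum_mem _ fun e he => isHomogeneous_monomial _ (hp e he).2
  refine ⟨⟨a, ha⟩, globL_ext fun j => ?_⟩
  rw [globL_globalOf, globL_eq s j i, map_sum]
  conv_rhs => rw [← AddMonoidAlgebra.sum_coeff_single (globL s i)]
  refine Finset.sum_congr rfl fun e he => ?_
  rw [toLaur_monomial, (hp e he).1]

/-- Homogeneous polynomials are the global sections of `O(d)`. -/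
noncomputable def globalOfEquiv : homogeneousSubmodule ι R d ≃ TwTop ι R (d : ℤ) :=
  Equiv.ofBijective (fun a => Twist.globalOf (homogeneousSubmodule ι R) a)
    ⟨fun a b h => Subtype.ext (toLaur_injective (by
      obtain ⟨i⟩ := ‹Nonempty ι›
      rw [← globL_globalOf a i, ← globL_globalOf b i]
      exact congrArg (fun s : TwTop ι R (d : ℤ) => globL s i) h)), exists_globalOf_eq⟩

theorem toLaur_smul (r : R) (p : MvPolynomial ι R) : toLaur ι R (r • p) = r • toLaur ι R p := by
  rw [smul_eq_C_mul, map_mul, ← single_zero_mul, ← map_zero (castExpo ι), ← toLaur_monomial]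
  rfl

theorem globalOf_add (a b : homogeneousSubmodule ι R d) :
    globalOfEquiv (a + b) = globalOfEquiv a + globalOfEquiv b := by
  refine globL_ext fun i => ?_
  have h : ∀ c, globL (globalOfEquiv (ι := ι) (R := R) (d := d) c) i = toLaur ι R c.1 :=
    fun c => globL_globalOf c i
  refine (h _).trans (((map_add _ a.1 b.1).trans (congrArg₂ (· + ·) (h a).symm (h b).symm)).trans ?_)
  exact (map_add (secTw (R := R) (d : ℤ) _ (single_one_ne_zero i)) _ _).symm

theorem globalOf_smul (r : R) (a : homogeneousSubmodule ι R d) :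
    (globalOfEquiv (r • a) : TwTop ι R (d : ℤ)) =
      ((Coh.smulAb (Twist.twist (homogeneousSubmodule ι R) (d : ℤ)) (constTop ι r)).hom.app
        (op ⊤) (globalOfEquiv a) : TwTop ι R (d : ℤ)) := by
  refine globL_ext fun i => ?_
  rw [globL_smulAb]
  refine (globL_globalOf (r • a) i).trans ?_
  exact (toLaur_smul r a.1).trans (congrArg (r • ·) (globL_globalOf a i).symm)

end Groth.Agent.PnCoh
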