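import Groth.Agent.PnCoh.Laurent
import Mathlib.AlgebraicGeometry.ProjectiveSpectrum.Basic

/-!
# Sections of the structure sheaf of `Proj R[T]` on monomial basic opens
-/

universe u

open CategoryTheory AlgebraicGeometry MvPolynomial Opposite

namespace Groth.Agent.PnCoh

attribute [local instance] MvPolynomial.gradedAlgebra

variable {ι : Type} {R : Type u} [CommRing R]

variable (R) in
/-- The monomial basic open. -/
noncomputable abbrev mOpen (g : ι →₀ ℕ) : (Proj (homogeneousSubmodule ι R)).Opens :=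
  Proj.basicOpen (homogeneousSubmodule ι R) (monomial g (1 : R))

theorem monomial_add_eq (g h : ι →₀ ℕ) :
    monomial (g + h) (1 : R) = monomial g (1 : R) * monomial h (1 : R) := by
  rw [monomial_mul, mul_one]

theorem mOpen_add (g h : ι →₀ ℕ) : mOpen R (g + h) = mOpen R g ⊓ mOpen R h := by
  rw [mOpen, monomial_add_eq, Proj.basicOpen_mul]

theorem degree_pos {g : ι →₀ ℕ} (hg : g ≠ 0) : 0 < g.degree :=
  Nat.pos_of_ne_zero fun h => hg ((Finsupp.degree_eq_zero_iff g).1 h)

theorem isAffineOpen_mOpen {g : ι →₀ ℕ} (hg : g ≠ 0) : IsAffineOpen (mOpen R g) :=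
  Proj.isAffineOpen_basicOpen _ _ (monomial_mem_homogeneous g) (degree_pos hg)

/-- Sections on a monomial basic open as Laurent polynomials. -/
noncomputable def secL (g : ι →₀ ℕ) (hg : g ≠ 0) :
    Γ(Proj (homogeneousSubmodule ι R), mOpen R g) →+* Laur ι R :=
  (awayToLaur g).comp
    (Proj.basicOpenIsoAway _ _ (monomial_mem_homogeneous g) (degree_pos hg)).inv.hom

theorem secL_awayToSection (g : ι →₀ ℕ) (hg : g ≠ 0)
    (y : HomogeneousLocalization.Away (homogeneousSubmodule ι R) (monomial g (1 : R))) :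
    secL g hg ((Proj.awayToSection _ _).hom y) = awayToLaur g y :=
  congrArg (awayToLaur g) (ConcreteCategory.congr_hom
    (Proj.basicOpenIsoAway _ _ (monomial_mem_homogeneous g) (degree_pos hg)).hom_inv_id y)

theorem exists_awayToSection (g : ι →₀ ℕ) (hg : g ≠ 0)
    (x : Γ(Proj (homogeneousSubmodule ι R), mOpen R g)) :
    ∃ y, (Proj.awayToSection _ _).hom y = x :=
  ⟨_, ConcreteCategory.congr_hom
    (Proj.basicOpenIsoAway _ _ (monomial_mem_homogeneous g) (degree_pos hg)).inv_hom_id x⟩

theorem secL_injective (g : ι →₀ ℕ) (hg : g ≠ 0) : Function.Injective (secL (R := R) g hg) := by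
  intro a b h
  obtain ⟨a, rfl⟩ := exists_awayToSection g hg a
  obtain ⟨b, rfl⟩ := exists_awayToSection g hg b
  rw [secL_awayToSection, secL_awayToSection] at h
  rw [awayToLaur_injective g h]

theorem secL_mem (g : ι →₀ ℕ) (hg : g ≠ 0) (x) :
    secL (R := R) g hg x ∈ AddMonoidAlgebra.supported R R (supp (g.support : Set ι)) :=
  awayToLaur_mem g _

theorem exists_secL_eq (g : ι →₀ ℕ) (hg : g ≠ 0) {p : Laur ι R}
    (hp : p ∈ AddMonoidAlgebra.supported R R (supp (g.support : Set ι))) :
    ∃ x, secL g hg x = p := by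
  obtain ⟨y, hy⟩ := exists_awayToLaur_eq g hp
  exact ⟨_, (secL_awayToSection g hg y).trans hy⟩

theorem secL_res {g g' : ι →₀ ℕ} (h : ι →₀ ℕ) (hgh : g' = g + h) (hg : g ≠ 0) (hg' : g' ≠ 0)
    (i : mOpen R g' ⟶ mOpen R g) (x : Γ(Proj (homogeneousSubmodule ι R), mOpen R g)) :
    secL g' hg' (((Proj (homogeneousSubmodule ι R)).presheaf.map i.op).hom x) = secL g hg x := by
  subst hgh
  obtain ⟨y, rfl⟩ := exists_awayToSection g hg x
  have := ConcreteCategory.congr_hom (Proj.awayMap_awayToSection (homogeneousSubmodule ι R)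
    (f := monomial g (1 : R)) (monomial_mem_homogeneous h) (monomial_add_eq g h)) y
  rw [secL_awayToSection, ← awayToLaur_awayMap g h (monomial_add_eq g h) y,
    ← secL_awayToSection (g + h) hg']
  refine congrArg _ ?_
  rw [Subsingleton.elim i (homOfLE _)]
  exact this.symm

section Tuple

variable {p : ℕ}

/-- The exponent of a tuple. -/
noncomputable def tupExp (σ : Fin p → ι) : ι →₀ ℕ := ∑ a, Finsupp.single (σ a) 1

theorem tupExp_succAbove (τ : Fin (p + 1) → ι) (a : Fin (p + 1)) :
    tupExp τ = tupExp (fun b => τ (a.succAbove b)) + Finsupp.single (τ a) 1 := by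
  rw [tupExp, Fin.sum_univ_succAbove _ a, add_comm]
  rfl

theorem support_tupExp (σ : Fin p → ι) : ((tupExp σ).support : Set ι) = Set.range σ := by
  ext i
  simp only [tupExp, Finset.mem_coe, Finsupp.mem_support_iff, Set.mem_range]
  rw [Finsupp.finsetSum_apply, Ne, Finset.sum_eq_zero_iff]
  classical
  simp [Finsupp.single_apply]

theorem tupExp_ne_zero (σ : Fin (p + 1) → ι) : tupExp σ ≠ 0 := by
  intro h
  have h1 : σ 0 ∈ ((tupExp σ).support : Set ι) := by rw [support_tupExp]; exact ⟨0, rfl⟩
  simp [h] at h1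

theorem mOpen_tupExp : ∀ {p : ℕ} (σ : Fin p → ι),
    mOpen R (tupExp σ) = ⨅ a, mOpen R (Finsupp.single (σ a) 1)
  | 0, σ => by
    simp [tupExp, mOpen, Proj.basicOpen_one, monomial_zero', iInf_of_empty]
  | p + 1, σ => by
    rw [tupExp_succAbove σ 0, mOpen_add, mOpen_tupExp, inf_comm]
    refine le_antisymm (le_iInf fun a => ?_) (le_inf (iInf_le _ _) (le_iInf fun b => iInf_le _ _))
    induction a using Fin.cases with
    | zero => exact inf_le_left
    | succ a => exact inf_le_right.trans ((iInf_le _ a).trans_eq (by simp))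

end Tuple

theorem iSup_mOpen_single :
    ⨆ i : ι, mOpen R (Finsupp.single i 1) = ⊤ := by
  refine Proj.iSup_basicOpen_eq_top _ _ (fun p hp => ?_)
  rw [p.as_sum]
  refine Ideal.sum_mem _ fun a ha => ?_
  have ha0 : a ≠ 0 := by
    rintro rfl
    have h0 := MvPolynomial.mem_support_iff.1 ha
    replace hp : GradedRing.proj (homogeneousSubmodule ι R) 0 p = 0 := hp
    have : coeff 0 (GradedRing.proj (homogeneousSubmodule ι R) 0 p) = coeff 0 p := by
      rw [show GradedRing.proj (homogeneousSubmodule ι R) 0 p = homogeneousComponent 0 p from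
        MvPolynomial.decomposition.decompose'_apply p 0]
      simp [coeff_homogeneousComponent]
    rw [hp, coeff_zero] at this
    exact h0 this.symm
  obtain ⟨i, hi⟩ := Finsupp.support_nonempty_iff.2 ha0
  have hle : Finsupp.single i 1 ≤ a := by
    rw [Finsupp.single_le_iff]
    exact Nat.one_le_iff_ne_zero.2 (Finsupp.mem_support_iff.1 hi)
  rw [← tsub_add_cancel_of_le hle, show monomial (a - Finsupp.single i 1 + Finsupp.single i 1)
    (p.coeff (a - Finsupp.single i 1 + Finsupp.single i 1)) =
    monomial (a - Finsupp.single i 1) (p.coeff (a - Finsupp.single i 1 + Finsupp.single i 1)) *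
      monomial (Finsupp.single i 1) 1 by rw [monomial_mul, mul_one]]
  exact Ideal.mul_mem_left _ _ (Ideal.subset_span ⟨i, rfl⟩)

end Groth.Agent.PnCoh
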