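import Groth.Agent.PnCoh.Homotopy
import Groth.Agent.PnCoh.Sections
import Groth.Prelude.Def_CohB1

/-!
# Global functions on projective space
-/

universe u

open CategoryTheory AlgebraicGeometry MvPolynomial Opposite

namespace Groth.Agent.PnCoh

attribute [local instance] MvPolynomial.gradedAlgebra

variable {ι : Type} {R : Type u} [CommRing R]

/-- The structure map to `Spec R`. -/
noncomputable abbrev toSpecR (ι : Type) (R : Type u) [CommRing R] :
    Proj (homogeneousSubmodule ι R) ⟶ Spec (CommRingCat.of R) :=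
  Proj.toSpecZero (homogeneousSubmodule ι R) ≫
    Spec.map (CommRingCat.ofHom (algebraMap R (homogeneousSubmodule ι R 0)))

/-- The map from `R` to sections on a monomial open. -/
noncomputable def constSec (g : ι →₀ ℕ) :
    CommRingCat.of R ⟶ Γ(Proj (homogeneousSubmodule ι R), mOpen R g) :=
  CommRingCat.ofHom (algebraMap R (homogeneousSubmodule ι R 0)) ≫
    CommRingCat.ofHom (HomogeneousLocalization.fromZeroRingHom (homogeneousSubmodule ι R) _) ≫
      Proj.awayToSection (homogeneousSubmodule ι R) (monomial g (1 : R))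

theorem ι_toSpecR {g : ι →₀ ℕ} (hg : g ≠ 0) :
    (mOpen R g).ι ≫ toSpecR ι R = (mOpen R g).toSpecΓ ≫ Spec.map (constSec g) := by
  have h := Proj.awayι_toSpecZero (homogeneousSubmodule ι R) (monomial g (1 : R))
    (monomial_mem_homogeneous g) (degree_pos hg)
  rw [← Proj.basicOpenIsoSpec_inv_ι, Category.assoc, Iso.inv_comp_eq,
    Proj.basicOpenIsoSpec_hom, Proj.basicOpenToSpec, Category.assoc, ← Spec.map_comp] at h
  rw [toSpecR, ← Category.assoc, h, Category.assoc, ← Spec.map_comp]
  rfl

theorem toSpecR_appTop_res {g : ι →₀ ℕ} (hg : g ≠ 0)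
    (x : Γ(Spec (CommRingCat.of R), ⊤)) (i : mOpen R g ⟶ ⊤) :
    ((Proj (homogeneousSubmodule ι R)).presheaf.map i.op).hom ((toSpecR ι R).appTop.hom x) =
      (constSec g).hom ((Scheme.ΓSpecIso (CommRingCat.of R)).hom.hom x) := by
  have h := congrArg Scheme.Hom.appTop (ι_toSpecR (ι := ι) (R := R) hg)
  rw [Scheme.Hom.comp_appTop (mOpen R g).ι, Scheme.Hom.comp_appTop (mOpen R g).toSpecΓ,
    Scheme.Opens.toSpecΓ_appTop, ← Category.assoc (Spec.map (constSec g)).appTop,
    Scheme.ΓSpecIso_naturality, Category.assoc] at h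
  have h' := congrArg (fun φ => φ ≫ (mOpen R g).topIso.hom) h
  simp only [Category.assoc, Iso.inv_hom_id, Category.comp_id] at h'
  rw [Scheme.Opens.ι_appTop, Scheme.Opens.topIso_hom] at h'
  have key : ∀ {A B : (TopologicalSpace.Opens (Proj (homogeneousSubmodule ι R)))ᵒᵖ}
      (a : op ⊤ ⟶ A) (b : A ⟶ B) (c : op ⊤ ⟶ B) (y : Γ(Proj (homogeneousSubmodule ι R), ⊤)),
      ((Proj (homogeneousSubmodule ι R)).presheaf.map c).hom y =
        ((Proj (homogeneousSubmodule ι R)).presheaf.map b).hom
          (((Proj (homogeneousSubmodule ι R)).presheaf.map a).hom y) := fun a b c y => by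
    rw [Subsingleton.elim c (a ≫ b), Functor.map_comp]; rfl
  exact (key _ _ i.op _).trans (ConcreteCategory.congr_hom h' x)

theorem secL_constSec {g : ι →₀ ℕ} (hg : g ≠ 0) (r : R) :
    secL g hg ((constSec g).hom r) = AddMonoidAlgebra.single 0 r := by
  refine (secL_awayToSection g hg _).trans ?_
  rw [awayToLaur_apply]
  show locToLaur g (Localization.mk (C r) ⟨1, one_mem _⟩) = _
  have h := locToLaur_mk g (C r) 0
  simp only [pow_zero, zero_nsmul, neg_zero] at h
  rw [h]
  show toLaur ι R (monomial 0 r) * AddMonoidAlgebra.single 0 1 = _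
  rw [toLaur_monomial, map_zero, AddMonoidAlgebra.single_mul_single, add_zero, mul_one]

theorem bijective_toSpecR_appTop [Fintype ι] [Nonempty ι] :
    Function.Bijective (toSpecR ι R).appTop.hom := by
  classical
  let g : ι → ι →₀ ℕ := fun i => Finsupp.single i 1
  have hg : ∀ i, g i ≠ 0 := fun i => Finsupp.single_ne_zero.2 one_ne_zero
  constructor
  · intro a b hab
    obtain ⟨i⟩ := ‹Nonempty ι›
    have h1 := toSpecR_appTop_res (hg i) a (homOfLE le_top)
    have h2 := toSpecR_appTop_res (hg i) b (homOfLE le_top)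
    rw [hab, h2] at h1
    have h3 := congrArg (secL (g i) (hg i)) h1
    rw [secL_constSec, secL_constSec] at h3
    exact ((ConcreteCategory.bijective_of_isIso (Scheme.ΓSpecIso (CommRingCat.of R)).hom).1
      (by simpa using (congrArg (fun p : Laur ι R => p.coeff 0) h3).symm))
  · intro s
    let res : ∀ i, Γ(Proj (homogeneousSubmodule ι R), mOpen R (g i)) := fun i =>
      ((Proj (homogeneousSubmodule ι R)).presheaf.map (homOfLE le_top).op).hom s
    let c : ι → Laur ι R := fun i => secL (g i) (hg i) (res i)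
    have hc : ∀ i, c i ∈ AddMonoidAlgebra.supported R R (supp {i}) := fun i => by
      have h := secL_mem (g i) (hg i) (res i)
      rwa [Finsupp.support_single _ one_ne_zero, Finset.coe_singleton] at h
    have hij : ∀ i j, c i = c j := fun i j => by
      have hne : g i + g j ≠ 0 := fun h => hg i (by
        ext k; have := DFunLike.congr_fun h k; simp at this ⊢; omega)
      have hji : g i + g j = g j + g i := add_comm _ _
      have hi : mOpen R (g i + g j) ≤ mOpen R (g i) := (mOpen_add _ _).trans_le inf_le_left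
      have hj : mOpen R (g i + g j) ≤ mOpen R (g j) := (mOpen_add _ _).trans_le inf_le_right
      show secL _ _ (res i) = secL _ _ (res j)
      rw [← secL_res (g j) rfl (hg i) hne (homOfLE hi), ← secL_res (g i) hji (hg j) hne (homOfLE hj)]
      simp only [res, ← CommRingCat.comp_apply, ← Functor.map_comp]
      rfl
    obtain ⟨i₀⟩ := ‹Nonempty ι›
    refine ⟨(Scheme.ΓSpecIso (CommRingCat.of R)).inv.hom ((c i₀).coeff 0),
      TopCat.Sheaf.eq_of_locally_eq' (Proj (homogeneousSubmodule ι R)).sheaf
        (fun i => mOpen R (g i)) ⊤ (fun i => homOfLE le_top) iSup_mOpen_single.ge _ _ fun i => ?_⟩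
    apply secL_injective (g i) (hg i)
    refine ((congrArg _ (toSpecR_appTop_res (hg i) _ _)).trans (secL_constSec (hg i) _)).trans ?_
    rw [← CommRingCat.comp_apply, Iso.inv_hom_id, CommRingCat.id_apply, hij i₀ i]
    exact (eq_single_of_delta_eq_zero hc hij i).symm

end Groth.Agent.PnCoh
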