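import Groth.Agent.PnCoh.Homotopy
import Groth.Agent.PnCoh.Sections
import Groth.Agent.QCoh.CechComparison
import Groth.Agent.QCoh.Ab.CechBridge

/-!
# The Čech complex of the structure sheaf on projective space
-/

universe u

open CategoryTheory AlgebraicGeometry MvPolynomial Opposite TopologicalSpace
open Groth.Agent.QCoh.Ab

namespace Groth.Agent.PnCoh

attribute [local instance] MvPolynomial.gradedAlgebra

variable {ι : Type} {R : Type u} [CommRing R]

variable (ι R) in
/-- Projective space on the index type `ι`. -/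
noncomputable abbrev PS : Scheme.{u} := Proj (homogeneousSubmodule ι R)

variable (ι R) in
/-- The standard covering. -/
noncomputable abbrev stdU : ULift.{u} ι → (PS ι R).Opens :=
  fun i => mOpen R (Finsupp.single i.down 1)

/-- The intersection along a tuple. -/
noncomputable abbrev tupOpen {p : ℕ} (σ : Fin p → ULift.{u} ι) : (PS ι R).Opens :=
  mOpen R (tupExp fun a => (σ a).down)

theorem tupOpen_eq {p : ℕ} (σ : Fin p → ULift.{u} ι) :
    tupOpen (R := R) σ = ⨅ a, stdU ι R (σ a) :=
  mOpen_tupExp _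

theorem le_tupOpen {p : ℕ} {σ : Fin p → ULift.{u} ι} {W : (PS ι R).Opens}
    (h : Le (X := (PS ι R).toPresheafedSpace.carrier) (stdU ι R) σ W) : W ≤ tupOpen σ :=
  (le_iInf h).trans_eq (tupOpen_eq σ).symm

theorem tupOpen_le {p : ℕ} (σ : Fin p → ULift.{u} ι) :
    Le (X := (PS ι R).toPresheafedSpace.carrier) (stdU ι R) σ (tupOpen (R := R) σ) :=
  fun a => (tupOpen_eq σ).trans_le (iInf_le _ a)

/-- A cochain of the structure sheaf as a function with values in Laurent polynomials. -/
noncomputable def cochainL {p : ℕ}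
    (c : Cochain (X := (PS ι R).toPresheafedSpace.carrier)
      (Coh.structureModule (PS ι R)).presheaf (stdU ι R) (p + 1))
    (σ : Fin (p + 1) → ι) : Laur ι R :=
  secL (tupExp σ) (tupExp_ne_zero σ)
    (c (fun a => ⟨σ a⟩) ⟨tupOpen fun a => ⟨σ a⟩, tupOpen_le _⟩ : Γ(PS ι R, mOpen R (tupExp σ)))

theorem cochainL_isSupported {p : ℕ}
    (c : Cochain (X := (PS ι R).toPresheafedSpace.carrier)
      (Coh.structureModule (PS ι R)).presheaf (stdU ι R) (p + 1)) :
    IsSupported (cochainL c) := fun σ => by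
  rw [← support_tupExp σ]
  exact secL_mem _ _ _

theorem cochainL_d {p : ℕ}
    (c : Cochain (X := (PS ι R).toPresheafedSpace.carrier)
      (Coh.structureModule (PS ι R)).presheaf (stdU ι R) (p + 1))
    (hc : IsNatural c) (τ : Fin (p + 2) → ι) :
    cochainL (Groth.Agent.QCoh.Ab.d c) τ = delta (cochainL c) τ := by
  refine (map_sum (secL (R := R) (tupExp τ) (tupExp_ne_zero τ)) _ _).trans
    (Finset.sum_congr rfl fun a _ => ?_)
  refine (map_zsmul _ _ _).trans (congrArg _ ?_)
  have hle : tupOpen (R := R) (fun b => (⟨τ b⟩ : ULift.{u} ι)) ≤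
      tupOpen (fun b => (⟨τ (a.succAbove b)⟩ : ULift.{u} ι)) :=
    le_tupOpen fun b => tupOpen_le _ (a.succAbove b)
  rw [← hc _ _ _ (tupOpen_le _) _ (homOfLE hle)]
  exact secL_res (Finsupp.single (τ a) 1) (tupExp_succAbove τ a) _ _ _ _

theorem acyclic [Fintype ι] [Nonempty ι] :
    Acyclic (X := (PS ι R).toPresheafedSpace.carrier)
      (Coh.structureModule (PS ι R)).presheaf (stdU ι R) := by
  intro p c hc hd
  obtain ⟨h, hs, hh⟩ := exists_delta_eq (cochainL c) (cochainL_isSupported c) fun τ => by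
    rw [← cochainL_d c hc τ]
    refine (congrArg (secL (R := R) (tupExp τ) (tupExp_ne_zero τ)) ?_).trans (map_zero _)
    exact congrFun (congrFun hd _) _
  have hsec : ∀ σ : Fin (p + 1) → ι, ∃ x, secL (tupExp σ) (tupExp_ne_zero σ) x = h σ := fun σ =>
    exists_secL_eq _ _ (by rw [support_tupExp σ]; exact hs σ)
  choose x hx using hsec
  let k : Cochain (X := (PS ι R).toPresheafedSpace.carrier)
      (Coh.structureModule (PS ι R)).presheaf (stdU ι R) (p + 1) := fun σ W =>
    (Coh.structureModule (PS ι R)).presheaf.map (homOfLE (le_tupOpen W.2)).op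
      (x fun a => (σ a).down : _)
  have hk : IsNatural k := fun σ W W' hW hW' i => map_map'' _ _ _ _ _
  have hkL : cochainL k = h := funext fun σ => by
    rw [← hx σ]
    exact congrArg (secL (R := R) (tupExp σ) (tupExp_ne_zero σ)) (map_self _ _ _)
  refine ⟨k, hk, funext fun σ => funext fun W => ?_⟩
  rw [← (d_natural hk) σ (tupOpen σ) W.1 (tupOpen_le σ) W.2 (homOfLE (le_tupOpen W.2)),
    ← hc σ (tupOpen σ) W.1 (tupOpen_le σ) W.2 (homOfLE (le_tupOpen W.2))]
  refine congrArg _ ?_
  apply secL_injective (tupExp fun a => (σ a).down) (tupExp_ne_zero _)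
  have h1 := cochainL_d k hk (fun a => (σ a).down)
  rw [hkL, hh] at h1
  exact h1

theorem isAffineOpen_tuple {p : ℕ} (σ : Fin (p + 1) → ULift.{u} ι) :
    IsAffineOpen (⨅ a, stdU ι R (σ a)) := by
  rw [← tupOpen_eq]
  exact isAffineOpen_mOpen (tupExp_ne_zero _)

theorem iSup_stdU : ⨆ i, stdU ι R i = ⊤ := by
  rw [← iSup_mOpen_single (ι := ι) (R := R)]
  exact Equiv.ulift.iSup_comp (g := fun i => mOpen R (Finsupp.single i 1))

/-- Positive cohomology of the structure sheaf of projective space vanishes. -/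
theorem subsingleton_HH_structureModule [Fintype ι] [Nonempty ι]
    (hM : Coh.IsQCoh (Coh.structureModule (PS ι R))) (q : ℕ) :
    Subsingleton (Coh.HH (PS ι R) (Coh.structureModule (PS ι R)) (q + 1)) := by
  obtain ⟨e⟩ := QCoh.cechH_equiv_HH (stdU ι R) iSup_stdU isAffineOpen_tuple hM (q + 1)
  have h := ((exactAt_iff_acyclic (X := (PS ι R).toPresheafedSpace.carrier) _ _).2
    (acyclic (ι := ι) (R := R)) q).isZero_homology
  have : Subsingleton ↑(CohB1.cechH (stdU ι R) (Coh.structureModule (PS ι R)) (q + 1)) :=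
    AddCommGrpCat.subsingleton_of_isZero h
  exact e.symm.subsingleton

end Groth.Agent.PnCoh
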