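import Groth.Agent.PnCoh.HomotopyD
import Groth.Agent.PnCoh.TwistQCoh
import Groth.Agent.PnCoh.Cech
import Groth.Agent.QCoh.Bound

/-!
# The Čech complex of `O(d)` on projective space
-/

universe u

open CategoryTheory AlgebraicGeometry MvPolynomial Opposite TopologicalSpace
open Groth.Agent.QCoh.Ab

namespace Groth.Agent.PnCoh

attribute [local instance] MvPolynomial.gradedAlgebra

variable {ι : Type} {R : Type u} [CommRing R] {d : ℤ}

variable (ι R) in
/-- The presheaf of sections of `O(d)`. -/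
noncomputable abbrev twPre (d : ℤ) :
    TopCat.Presheaf AddCommGrpCat.{u} (PS ι R).toPresheafedSpace.carrier :=
  (Twist.twist (homogeneousSubmodule ι R) d).presheaf

variable (ι R) in
/-- Cochains of `O(d)` on the standard cover. -/
abbrev TwCochain (d : ℤ) (p : ℕ) : Type u :=
  Cochain (X := (PS ι R).toPresheafedSpace.carrier) (twPre ι R d) (stdU ι R) p

/-- A cochain of `O(d)` as a function with values in Laurent polynomials. -/
noncomputable def cochainTw {p : ℕ} (c : TwCochain ι R d (p + 1)) (σ : Fin (p + 1) → ι) :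
    Laur ι R :=
  secTw d (tupExp σ) (tupExp_ne_zero σ)
    (c (fun a => ⟨σ a⟩) ⟨tupOpen fun a => ⟨σ a⟩, tupOpen_le _⟩ : TwSec R d (tupExp σ))

theorem cochainTw_isSuppD {p : ℕ} (c : TwCochain ι R d (p + 1)) : IsSuppD d (cochainTw c) :=
  fun σ => by
    rw [← support_tupExp σ]
    exact secTw_mem _ _ _ _

theorem cochainTw_d {p : ℕ} (c : TwCochain ι R d (p + 1)) (hc : IsNatural c)
    (τ : Fin (p + 2) → ι) :
    cochainTw (Groth.Agent.QCoh.Ab.d c) τ = delta (cochainTw c) τ := by
  refine (map_sum (secTw (R := R) d (tupExp τ) (tupExp_ne_zero τ)) _ _).trans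
    (Finset.sum_congr rfl fun a _ => ?_)
  refine (map_zsmul _ _ _).trans (congrArg _ ?_)
  have hle : tupOpen (R := R) (fun b => (⟨τ b⟩ : ULift.{u} ι)) ≤
      tupOpen (fun b => (⟨τ (a.succAbove b)⟩ : ULift.{u} ι)) :=
    le_tupOpen fun b => tupOpen_le _ (a.succAbove b)
  refine (congrArg (secTw (R := R) d (tupExp τ) (tupExp_ne_zero τ))
    (hc (fun b => (⟨τ (a.succAbove b)⟩ : ULift.{u} ι)) _ (tupOpen fun b => (⟨τ b⟩ : ULift.{u} ι))
      (tupOpen_le _) _ (homOfLE hle)).symm).trans ?_
  exact secTw_res d (Finsupp.single (τ a) 1) (tupExp_succAbove τ a) _ _ _ _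

theorem delta_cochainTw_eq_zero {p : ℕ} (c : TwCochain ι R d (p + 1)) (hc : IsNatural c)
    (hd : Groth.Agent.QCoh.Ab.d c = 0) (τ : Fin (p + 2) → ι) : delta (cochainTw c) τ = 0 := by
  rw [← cochainTw_d c hc τ]
  refine (congrArg (secTw (R := R) d (tupExp τ) (tupExp_ne_zero τ)) ?_).trans (map_zero _)
  exact congrFun (congrFun hd _) _

theorem natural_ext {p : ℕ} {c c' : TwCochain ι R d (p + 1)} (hc : IsNatural c)
    (hc' : IsNatural c') (h : ∀ σ, cochainTw c σ = cochainTw c' σ) : c = c' := by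
  funext σ W
  rw [← hc σ (tupOpen σ) W.1 (tupOpen_le σ) W.2 (homOfLE (le_tupOpen W.2)),
    ← hc' σ (tupOpen σ) W.1 (tupOpen_le σ) W.2 (homOfLE (le_tupOpen W.2))]
  refine congrArg _ ?_
  exact secTw_injective d (tupExp fun a => (σ a).down) (tupExp_ne_zero _) (h fun a => (σ a).down)

theorem exists_natural_cochain {p : ℕ} {h : (Fin (p + 1) → ι) → Laur ι R} (hs : IsSuppD d h) :
    ∃ k : TwCochain ι R d (p + 1), IsNatural k ∧ ∀ σ, cochainTw k σ = h σ := by
  have hsec : ∀ σ : Fin (p + 1) → ι, ∃ x, secTw d (tupExp σ) (tupExp_ne_zero σ) x = h σ := fun σ =>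
    exists_secTw_eq d _ _ (by rw [support_tupExp σ]; exact hs σ)
  choose x hx using hsec
  refine ⟨fun σ W => (twPre ι R d).map (homOfLE (le_tupOpen W.2)).op (x fun a => (σ a).down : _),
    fun σ W W' hW hW' i => map_map'' _ _ _ _ _, fun σ => ?_⟩
  rw [← hx σ]
  exact congrArg (secTw (R := R) d (tupExp σ) (tupExp_ne_zero σ)) (map_self _ _ _)

theorem exists_natural_d_eq [Fintype ι] [Nonempty ι] {p : ℕ} (c : TwCochain ι R d (p + 2))
    (hc : IsNatural c) (hd : Groth.Agent.QCoh.Ab.d c = 0)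
    (hb : ∀ σ e, IsBottom e → (cochainTw c σ).coeff e = 0) :
    ∃ k : TwCochain ι R d (p + 1), IsNatural k ∧ Groth.Agent.QCoh.Ab.d k = c := by
  obtain ⟨h, hs, hh⟩ := exists_delta_eqD d (cochainTw c) (cochainTw_isSuppD c) hb
    (delta_cochainTw_eq_zero c hc hd)
  obtain ⟨k, hk, hkh⟩ := exists_natural_cochain hs
  refine ⟨k, hk, natural_ext (d_natural hk) hc fun σ => ?_⟩
  rw [cochainTw_d k hk, funext hkh, hh]

theorem natCx_exactAt {p : ℕ}
    (h : ∀ c : TwCochain ι R d (p + 2), IsNatural c → Groth.Agent.QCoh.Ab.d c = 0 →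
      ∃ k : TwCochain ι R d (p + 1), IsNatural k ∧ Groth.Agent.QCoh.Ab.d k = c) :
    (natCx (X := (PS ι R).toPresheafedSpace.carrier) (twPre ι R d) (stdU ι R)).ExactAt (p + 1) := by
  rw [HomologicalComplex.exactAt_iff' _ p (p + 1) (p + 2) (by simp) (by simp),
    ShortComplex.ab_exact_iff]
  simp only [HomologicalComplex.sc', HomologicalComplex.shortComplexFunctor'_obj_f,
    HomologicalComplex.shortComplexFunctor'_obj_g, natCx_d]
  intro c hd
  obtain ⟨b, hbn, hb⟩ := h c.1 c.2 (congrArg Subtype.val hd)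
  exact ⟨⟨b, hbn⟩, Subtype.ext hb⟩

theorem subsingleton_HH_pos [Fintype ι] [Nonempty ι] {p : ℕ}
    (hp : p + 2 < Fintype.card ι ∨ -(Fintype.card ι : ℤ) < d) :
    Subsingleton (Coh.HH (PS ι R) (Twist.twist (homogeneousSubmodule ι R) d) (p + 1)) := by
  obtain ⟨e⟩ := QCoh.cechH_equiv_HH (stdU ι R) iSup_stdU isAffineOpen_tuple
    (isQCoh_twist_mvPolynomial ι R d) (p + 1)
  have h := natCx_exactAt (ι := ι) (R := R) (d := d) (p := p) fun c hc hd => exists_natural_d_eq c hc hd fun σ e he =>
    hp.elim (fun hp => bottom_zero_of_card (cochainTw_isSuppD c) hp σ e he)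
      (fun hp => bottom_zero_of_degree (cochainTw_isSuppD c) hp σ e he)
  have h' : Limits.IsZero (((cechComplexFunctor (stdU ι R)).obj (twPre ι R d)).homology (p + 1)) :=
    Limits.IsZero.of_iso h.isZero_homology
      (HomologicalComplex.homologyMapIso (cechIso _ _) (p + 1)).symm
  have : Subsingleton ↑(CohB1.cechH (stdU ι R) (Twist.twist (homogeneousSubmodule ι R) d) (p + 1)) :=
    AddCommGrpCat.subsingleton_of_isZero h'
  exact e.symm.subsingleton

theorem single_one_ne_zero (i : ι) : Finsupp.single i 1 ≠ (0 : ι →₀ ℕ) :=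
  Finsupp.single_ne_zero.2 one_ne_zero

/-- Global sections of `O(d)`. -/
noncomputable abbrev TwTop (ι : Type) (R : Type u) [CommRing R] (d : ℤ) : Type u :=
  Twist.sectN (𝒜 := homogeneousSubmodule ι R) d (op ⊤)

/-- Restriction of a global section to a monomial open. -/
noncomputable def globRes (s : TwTop ι R d) (g : ι →₀ ℕ) : TwSec R d g :=
  Twist.resN d (homOfLE (le_top (a := (mOpen R g : Opens (ProjectiveSpectrum.top
    (homogeneousSubmodule ι R)))))).op s

/-- The Laurent polynomial of a global section on a standard open. -/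
noncomputable def globL (s : TwTop ι R d) (i : ι) : Laur ι R :=
  secTw d (Finsupp.single i 1) (single_one_ne_zero i) (globRes s _)

theorem globL_eq (s : TwTop ι R d) (i j : ι) : globL s i = globL s j := by
  classical
  have hne : Finsupp.single i 1 + Finsupp.single j 1 ≠ (0 : ι →₀ ℕ) := fun h => by
    have := DFunLike.congr_fun h i
    simp at this
  refine (secTw_res d (Finsupp.single j 1) rfl (single_one_ne_zero i) hne
    (homOfLE ((mOpen_add _ _).trans_le inf_le_left)) (globRes s _)).symm.trans ?_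
  exact secTw_res d (Finsupp.single i 1) (add_comm _ _) (single_one_ne_zero j) hne
    (homOfLE ((mOpen_add _ _).trans_le inf_le_right)) (globRes s _)

theorem globL_ext {s t : TwTop ι R d} (h : ∀ i : ι, globL s i = globL t i) : s = t := by
  refine Subtype.ext (funext fun x => ?_)
  have hx : x.1 ∈ (⨆ i : ι, mOpen R (Finsupp.single i 1)) := by
    rw [iSup_mOpen_single]; trivial
  obtain ⟨i, hi⟩ := Opens.mem_iSup.1 hx
  exact congrArg (fun f : TwSec R d (Finsupp.single i 1) => f.1 ⟨x.1, hi⟩)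
    (secTw_injective d _ _ (h i))

theorem globL_supp [Fintype ι] (s : TwTop ι R d) (i : ι) (e : Expo ι)
    (he : (globL s i).coeff e ≠ 0) :
    e.sum (fun _ z => z) = d ∧ ((1 < Fintype.card ι ∨ 0 ≤ d) → ∀ j, 0 ≤ e j) := by
  classical
  have key : ∀ k, e ∈ suppD d ({k} : Set ι) := fun k => by
    rw [globL_eq s i k] at he
    have := AddMonoidAlgebra.mem_supported.1 (secTw_mem d _ (single_one_ne_zero k) (globRes s _))
      (Finsupp.mem_support_iff.2 he)
    rwa [Finsupp.support_single _ one_ne_zero, Finset.coe_singleton] at this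
  refine ⟨(key i).1, fun hd j => ?_⟩
  by_contra hj
  push Not at hj
  rcases hd with hd | hd
  · obtain ⟨k, hk⟩ := Fintype.exists_ne_of_one_lt_card hd j
    exact hk ((key k).2 j hj).symm
  · obtain ⟨m, hm⟩ : ∃ m, 0 < e m := by
      by_contra hm
      push Not at hm
      have h2 := Finset.sum_lt_sum (fun x (_ : x ∈ Finset.univ) => hm x)
        ⟨j, Finset.mem_univ _, hj⟩
      simp only [Finset.sum_const_zero, ← Finsupp.sum_fintype e (fun _ z => z) (fun _ => rfl),
        (key i).1] at h2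
      omega
    have : j = m := (key m).2 j hj
    subst this
    omega

theorem subsingleton_global [Fintype ι] (hι : 1 < Fintype.card ι) (hd : d < 0) :
    Subsingleton (TwTop ι R d) := by
  have hzero : ∀ (s : TwTop ι R d) (i : ι), globL s i = 0 := fun s i => by
    ext e
    by_contra he
    obtain ⟨h1, h2⟩ := globL_supp s i e he
    rw [Finsupp.sum_fintype _ _ (fun _ => rfl)] at h1
    have h3 : 0 ≤ ∑ j, e j := Finset.sum_nonneg fun j _ => h2 (Or.inl hι) j
    omega
  exact ⟨fun s t => globL_ext fun i => (hzero s i).trans (hzero t i).symm⟩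

end Groth.Agent.PnCoh
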