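import Groth.Agent.PnCoh.TwistScalar
import Groth.Agent.PnCoh.CechNat

/-!
# Top Čech cohomology of `O(d)` on projective space
-/

universe u

open CategoryTheory CategoryTheory.Limits AlgebraicGeometry MvPolynomial Opposite TopologicalSpace
open Groth.Agent.QCoh.Ab

namespace Groth.Agent.PnCoh

attribute [local instance] MvPolynomial.gradedAlgebra

variable {m : ℕ} {R : Type u} [CommRing R] {k : ℕ}

/-- The exponents `-e-1`, `e` of degree `k`. -/
noncomputable def negExpo (a : Fin (m + 1) →₀ ℕ) : Expo (Fin (m + 1)) :=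
  Finsupp.equivFunOnFinite.symm fun i => -(a i : ℤ) - 1

theorem negExpo_apply (a : Fin (m + 1) →₀ ℕ) (i : Fin (m + 1)) : negExpo a i = -(a i : ℤ) - 1 := rfl

theorem negExpo_injective : Function.Injective (negExpo (m := m)) := fun a b h => by
  ext i
  have := DFunLike.congr_fun h i
  simp [negExpo_apply] at this
  omega

theorem exists_negExpo_eq {e : Expo (Fin (m + 1))} (he : IsBottom e) : ∃ a, negExpo a = e := by
  refine ⟨Finsupp.equivFunOnFinite.symm fun i => (-e i - 1).toNat, ?_⟩
  ext i
  have := he i
  simp [negExpo_apply]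
  omega

theorem sum_negExpo (a : Fin (m + 1) →₀ ℕ) :
    (negExpo a).sum (fun _ z => z) = -((m : ℤ) + 1 + a.degree) := by
  rw [Finsupp.sum_fintype _ _ (fun _ => rfl), Finsupp.degree_eq_sum]
  simp [negExpo_apply, Finset.sum_sub_distrib]
  ring

theorem isBottom_negExpo (a : Fin (m + 1) →₀ ℕ) : IsBottom (negExpo a) := fun i => by
  rw [negExpo_apply]; omega

/-- The bottom part of a Laurent polynomial, as a polynomial. -/
noncomputable def botPoly : Laur (Fin (m + 1)) R →ₗ[R] MvPolynomial (Fin (m + 1)) R where
  toFun p := AddMonoidAlgebra.ofCoeff (p.coeff.comapDomain negExpo negExpo_injective.injOn)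
  map_add' a b := MvPolynomial.ext _ _ fun x => rfl
  map_smul' r a := MvPolynomial.ext _ _ fun x => rfl

theorem coeff_botPoly (p : Laur (Fin (m + 1)) R) (a : Fin (m + 1) →₀ ℕ) :
    coeff a (botPoly p) = p.coeff (negExpo a) := rfl

theorem botPoly_mem {p : Laur (Fin (m + 1)) R} {s : Set (Fin (m + 1))}
    (hp : p ∈ AddMonoidAlgebra.supported R R (suppD (-((m : ℤ) + 1 + k)) s)) :
    botPoly p ∈ homogeneousSubmodule (Fin (m + 1)) R k := by
  intro a ha
  rw [coeff_botPoly] at ha
  have h := AddMonoidAlgebra.mem_supported.1 hp (Finsupp.mem_support_iff.2 ha)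
  have h1 := sum_negExpo a
  rw [h.1] at h1
  have h2 : a.degree = k := by omega
  rw [← h2, Finsupp.degree_eq_weight_one]
  rfl

/-- The Laurent polynomial with given bottom part. -/
noncomputable def ofBot (q : MvPolynomial (Fin (m + 1)) R) : Laur (Fin (m + 1)) R :=
  ∑ a ∈ q.support, AddMonoidAlgebra.single (negExpo a) (coeff a q)

theorem botPoly_ofBot (q : MvPolynomial (Fin (m + 1)) R) : botPoly (ofBot q) = q := by
  classical
  ext a
  rw [coeff_botPoly, ofBot, AddMonoidAlgebra.coeff_sum, Finsupp.finsetSum_apply]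
  simp [Finsupp.single_apply, negExpo_injective.eq_iff]
  exact fun h => h.symm

theorem ofBot_mem {q : MvPolynomial (Fin (m + 1)) R}
    (hq : q ∈ homogeneousSubmodule (Fin (m + 1)) R k) :
    ofBot q ∈ AddMonoidAlgebra.supported R R
      {e : Expo (Fin (m + 1)) | e.sum (fun _ z => z) = -((m : ℤ) + 1 + k) ∧ IsBottom e} := by
  classical
  refine Submodule.sum_mem _ fun a ha => AddMonoidAlgebra.mem_supported'.2 fun e he => ?_
  rw [AddMonoidAlgebra.coeff_single, Finsupp.single_apply, if_neg]
  rintro rfl
  refine he ⟨?_, isBottom_negExpo a⟩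
  have h : a.degree = k := by
    by_contra hne
    exact (mem_support_iff.1 ha) (IsHomogeneous.coeff_eq_zero hq hne)
  rw [sum_negExpo, h]

variable (R) in
/-- The complex of natural cochains of `O(-(m+1+k))`. -/
noncomputable abbrev topK (m k : ℕ) : CochainComplex AddCommGrpCat.{u} ℕ :=
  natCx (X := (PS (Fin (m + 1)) R).toPresheafedSpace.carrier)
    (twPre (Fin (m + 1)) R (-((m : ℤ) + 1 + k))) (stdU (Fin (m + 1)) R)

/-- The bottom part of a cochain in degree `m`. -/
noncomputable def botHom : (topK R m k).cycles m →+ homogeneousSubmodule (Fin (m + 1)) R k :=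
  AddMonoidHom.mk' (fun x =>
    ⟨botPoly (cochainTw (d := -((m : ℤ) + 1 + k))
      ((topK R m k).iCycles m x : natCochains _ _ (m + 1)).1 id),
      botPoly_mem (cochainTw_isSuppD _ id)⟩) fun a b => by
    apply Subtype.ext
    rw [Submodule.coe_add, ← map_add]
    refine congrArg botPoly ?_
    rw [map_add]
    exact map_add (secTw (R := R) _ _ (tupExp_ne_zero _)) _ _

theorem cycle_natural (x : (topK R m k).cycles m) :
    IsNatural ((topK R m k).iCycles m x : natCochains _ _ (m + 1)).1 :=
  ((topK R m k).iCycles m x : natCochains _ _ (m + 1)).2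

theorem cycle_d (x : (topK R m k).cycles m) :
    Groth.Agent.QCoh.Ab.d ((topK R m k).iCycles m x : natCochains _ _ (m + 1)).1 = 0 := by
  have e := ConcreteCategory.congr_hom ((topK R m k).iCycles_d m (m + 1)) x
  rw [natCx_d] at e
  exact congrArg Subtype.val e

theorem botHom_surjective : Function.Surjective (botHom (R := R) (m := m) (k := k)) := by
  intro q
  obtain ⟨c, hc, hcc⟩ := exists_natural_cochain
    (h := bottomCocycle (ofBot q.1)) (isSuppD_bottomCocycle (ofBot_mem q.2))
  have hd : Groth.Agent.QCoh.Ab.d c = 0 := by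
    refine natural_ext (d_natural hc) (natCochains _ _ _).zero_mem fun σ => ?_
    rw [cochainTw_d c hc, funext hcc, delta_bottomCocycle]
    exact (map_zero (secTw (R := R) _ _ (tupExp_ne_zero σ))).symm
  let cc : (topK R m k).X m := (⟨c, hc⟩ : natCochains _ _ (m + 1))
  have hcc' : (topK R m k).d m (m + 1) cc = 0 := by
    rw [natCx_d]
    exact Subtype.ext hd
  have hex : (ShortComplex.mk ((topK R m k).iCycles m) ((topK R m k).d m (m + 1)) (by simp)).Exact :=
    ShortComplex.exact_of_f_is_kernel _ ((topK R m k).cyclesIsKernel m (m + 1) (by simp))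
  obtain ⟨x, hx⟩ := (ShortComplex.ab_exact_iff _).1 hex cc hcc'
  refine ⟨x, Subtype.ext ?_⟩
  show botPoly (cochainTw ((topK R m k).iCycles m x : natCochains _ _ (m + 1)).1 id) = q.1
  have hx' : ((topK R m k).iCycles m x : natCochains _ _ (m + 1)).1 = c := congrArg Subtype.val hx
  rw [hx', hcc, bottomCocycle_id, botPoly_ofBot]

theorem botHom_eq_zero_iff (x : (topK R m k).cycles m) :
    botHom x = 0 ↔ (topK R m k).homologyπ m x = 0 := by
  set c := ((topK R m k).iCycles m x : natCochains _ _ (m + 1)).1 with hcdef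
  have hbot0 : botHom x = 0 ↔ ∀ e, IsBottom e → (cochainTw c id).coeff e = 0 := by
    rw [Subtype.ext_iff]
    refine ⟨fun h e he => ?_, fun h => MvPolynomial.ext _ _ fun a => ?_⟩
    · obtain ⟨a, rfl⟩ := exists_negExpo_eq he
      exact congrArg (fun p : MvPolynomial (Fin (m + 1)) R => coeff a p) h
    · exact h _ (isBottom_negExpo a)
  have hbot : botHom x = 0 ↔ ∀ σ e, IsBottom e → (cochainTw c σ).coeff e = 0 :=
    hbot0.trans ⟨fun h σ e he => bottom_zero_of_id (cochainTw_isSuppD c)
      (delta_cochainTw_eq_zero c (cycle_natural x) (cycle_d x)) e he (h e he) σ,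
      fun h => h id⟩
  cases m with
  | zero =>
    have hinj : ∀ y, (topK R 0 k).homologyπ 0 y = 0 ↔ y = 0 := fun y => by
      haveI := CochainComplex.isIso_homologyπ₀ (topK R 0 k)
      exact map_eq_zero_iff _ (ConcreteCategory.bijective_of_isIso ((topK R 0 k).homologyπ 0)).1
    rw [hinj]
    refine ⟨fun h => ?_, fun h => by rw [h, map_zero]⟩
    apply (AddCommGrpCat.mono_iff_injective ((topK R 0 k).iCycles 0)).1 inferInstance
    rw [map_zero]
    refine Subtype.ext (natural_ext (cycle_natural x) (natCochains _ _ _).zero_mem fun σ => ?_)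
    refine Eq.trans (?_ : _ = (0 : Laur (Fin 1) R))
      (map_zero (secTw (R := R) _ _ (tupExp_ne_zero σ))).symm
    ext e
    by_contra hne
    have hs := AddMonoidAlgebra.mem_supported.1 (cochainTw_isSuppD c σ) (Finsupp.mem_support_iff.2 hne)
    refine hne (hbot.1 h σ e fun i => ?_)
    have h1 := hs.1
    rw [Finsupp.sum_fintype _ _ (fun _ => rfl), Fin.sum_univ_one] at h1
    rw [Fin.fin_one_eq_zero i]
    omega
  | succ p =>
    rw [hbot]
    constructor
    · intro h
      obtain ⟨b, hb, hbd⟩ := exists_natural_d_eq c (cycle_natural x) (cycle_d x) h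
      have hx : x = (topK R (p + 1) k).toCycles p (p + 1) (⟨b, hb⟩ : natCochains _ _ (p + 1)) := by
        apply (AddCommGrpCat.mono_iff_injective ((topK R (p + 1) k).iCycles (p + 1))).1 inferInstance
        refine Eq.trans (?_ : _ = natD _ _ p (⟨b, hb⟩ : natCochains _ _ (p + 1)))
          (ConcreteCategory.congr_hom (((topK R (p + 1) k).toCycles_i p (p + 1)).trans
            (natCx_d _ _ p)) _).symm
        exact Subtype.ext hbd.symm
      refine (congrArg _ hx).trans ?_
      exact ConcreteCategory.congr_hom ((topK R (p + 1) k).toCycles_comp_homologyπ p (p + 1)) _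
    · intro h σ e he
      have hex : (ShortComplex.mk ((topK R (p + 1) k).toCycles p (p + 1))
          ((topK R (p + 1) k).homologyπ (p + 1)) (by simp)).Exact :=
        ShortComplex.exact_of_g_is_cokernel _
          ((topK R (p + 1) k).homologyIsCokernel p (p + 1) (by simp))
      obtain ⟨b, hb⟩ := (ShortComplex.ab_exact_iff _).1 hex x h
      have hc : c = Groth.Agent.QCoh.Ab.d (b : natCochains _ _ (p + 1)).1 := by
        have h2 := congrArg ((topK R (p + 1) k).iCycles (p + 1)) hb
        have h3 := ConcreteCategory.congr_hom (((topK R (p + 1) k).toCycles_i p (p + 1)).trans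
            (natCx_d _ _ p)) b
        exact (congrArg Subtype.val (h3.symm.trans h2)).symm
      rw [hc, cochainTw_d _ (b : natCochains _ _ (p + 1)).2, delta, AddMonoidAlgebra.coeff_sum,
        Finsupp.finsetSum_apply]
      refine Finset.sum_eq_zero fun a _ => ?_
      rw [AddMonoidAlgebra.coeff_smul, Finsupp.smul_apply,
        bottom_zero_of_card (cochainTw_isSuppD _) (by simp) _ e he, smul_zero]

/-- Top Čech cohomology as homogeneous polynomials. -/
theorem exists_homology_equiv :
    ∃ e : ((topK R m k).homology m : AddCommGrpCat.{u}) ≃+ homogeneousSubmodule (Fin (m + 1)) R k,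
      ∀ x, e ((topK R m k).homologyπ m x) = botHom x :=
  exists_addEquiv_comm ((topK R m k).homologyπ m).hom botHom
    ((AddCommGrpCat.epi_iff_surjective _).1 inferInstance) botHom_surjective
    fun x => (botHom_eq_zero_iff x).symm

theorem iCycles_cyclesMap
    (φ : twPre (Fin (m + 1)) R (-((m : ℤ) + 1 + k)) ⟶ twPre (Fin (m + 1)) R (-((m : ℤ) + 1 + k)))
    (x : (topK R m k).cycles m) :
    ((topK R m k).iCycles m (HomologicalComplex.cyclesMap (natCxMap _ φ) m x) :
        natCochains _ _ (m + 1)).1 =
      push φ ((topK R m k).iCycles m x : natCochains _ _ (m + 1)).1 :=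
  congrArg Subtype.val (ConcreteCategory.congr_hom (HomologicalComplex.cyclesMap_i (natCxMap _ φ) m) x)

/-- Multiplication by a constant on the presheaf of sections. -/
noncomputable def smulPre (m k : ℕ) (r : R) :
    twPre (Fin (m + 1)) R (-((m : ℤ) + 1 + k)) ⟶ twPre (Fin (m + 1)) R (-((m : ℤ) + 1 + k)) :=
  (Coh.smulAb (Twist.twist (homogeneousSubmodule (Fin (m + 1)) R) (-((m : ℤ) + 1 + k)))
    (constTop (Fin (m + 1)) r)).hom

theorem botHom_smul (r : R) (x : (topK R m k).cycles m) :
    botHom (HomologicalComplex.cyclesMap (natCxMap _ (smulPre m k r)) m x) = r • botHom x := by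
  apply Subtype.ext
  rw [Submodule.coe_smul]
  show botPoly (cochainTw ((topK R m k).iCycles m _ : natCochains _ _ (m + 1)).1 id) =
    r • botPoly _
  rw [← map_smul, iCycles_cyclesMap]
  exact congrArg botPoly (cochainTw_smulAb r _ id)

/-- The comparison on homology commutes with the scalars. -/
theorem homology_equiv_smul
    (e : ((topK R m k).homology m : AddCommGrpCat.{u}) ≃+ homogeneousSubmodule (Fin (m + 1)) R k)
    (he : ∀ x, e ((topK R m k).homologyπ m x) = botHom x) (r : R)
    (y : (topK R m k).homology m) :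
    e (HomologicalComplex.homologyMap (natCxMap _ (smulPre m k r)) m y) = r • e y := by
  obtain ⟨x, rfl⟩ := (AddCommGrpCat.epi_iff_surjective ((topK R m k).homologyπ m)).1 inferInstance y
  refine (congrArg e (ConcreteCategory.congr_hom
    (HomologicalComplex.homologyπ_naturality (natCxMap _ (smulPre m k r)) m) x)).trans ?_
  refine (he _).trans ?_
  exact (botHom_smul r x).trans (congrArg (r • ·) (he x).symm)

end Groth.Agent.PnCoh
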