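import Groth.Prelude.Def_Twist2
import Mathlib.Algebra.Order.Group.Unbundled.Int

/-!
# Serre's twisting sheaf is trivial where a degree-one element does not vanish
-/

universe u

open CategoryTheory AlgebraicGeometry TopologicalSpace Opposite TopCat

namespace Groth.Agent.PnCoh

variable {R A : Type u} [CommRing R] [CommRing A] [Algebra R A]
  {𝒜 : ℕ → Submodule R A} [GradedAlgebra 𝒜] {s : A}

/-- The set of points of an open where `s` does not vanish is everything. -/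
abbrev NonVan (s : A) (U : Opens (ProjectiveSpectrum.top 𝒜)) : Prop :=
  ∀ x : U, s ∉ x.1.asHomogeneousIdeal

theorem pow_notMem {x : ProjectiveSpectrum 𝒜} (h : s ∉ x.asHomogeneousIdeal) (q : ℕ) :
    s ^ q ∉ x.asHomogeneousIdeal :=
  fun hh => h (x.isPrime.mem_of_pow_mem q hh)

theorem mul_notMem {x : ProjectiveSpectrum 𝒜} {a b : A} (ha : a ∉ x.asHomogeneousIdeal)
    (hb : b ∉ x.asHomogeneousIdeal) : a * b ∉ x.asHomogeneousIdeal :=
  fun h => (x.isPrime.mem_or_mem h).elim ha hb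

theorem pow_mem_one (hs : s ∈ 𝒜 1) (q : ℕ) : s ^ q ∈ 𝒜 q := by
  simpa using SetLike.pow_mem_graded q hs

/-- The section `s ^ d` of `O(d)`. -/
noncomputable def twPow (hs : s ∈ 𝒜 1) (d : ℤ) {U : Opens (ProjectiveSpectrum.top 𝒜)}
    (hU : NonVan s U) : Twist.sectN (𝒜 := 𝒜) d (op U) :=
  ⟨fun x => ⟨Localization.mk (s ^ d.toNat) ⟨s ^ (-d).toNat, pow_notMem (hU x) _⟩,
    Submodule.subset_span ⟨d.toNat, (-d).toNat, ⟨_, pow_mem_one hs _⟩, ⟨_, pow_mem_one hs _⟩,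
      pow_notMem (hU x) _, by omega, rfl⟩⟩,
   fun x => ⟨U, x.2, 𝟙 _, d.toNat, (-d).toNat, ⟨_, pow_mem_one hs _⟩, ⟨_, pow_mem_one hs _⟩,
    fun y => pow_notMem (hU y) _, Or.inl (by omega), fun _ => rfl⟩⟩

theorem twPow_apply (hs : s ∈ 𝒜 1) (d : ℤ) {U : Opens (ProjectiveSpectrum.top 𝒜)}
    (hU : NonVan s U) (x : U) :
    ((twPow hs d hU).1 x).1 =
      Localization.mk (s ^ d.toNat) ⟨s ^ (-d).toNat, pow_notMem (hU x) _⟩ := rfl

theorem twPow_res (hs : s ∈ 𝒜 1) (d : ℤ) {U V : Opens (ProjectiveSpectrum.top 𝒜)}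
    (hU : NonVan s U) (hV : NonVan s V) (i : V ⟶ U) :
    Twist.resN d i.op (twPow hs d hU) = twPow hs d hV := rfl

/-- Multiplication by `s ^ d`. -/
noncomputable def trivMap (hs : s ∈ 𝒜 1) (d : ℤ) {U : Opens (ProjectiveSpectrum.top 𝒜)}
    (hU : NonVan s U) : Twist.O (𝒜 := 𝒜) (op U) →ₗ[Twist.O (𝒜 := 𝒜) (op U)]
      Twist.sectN (𝒜 := 𝒜) d (op U) :=
  LinearMap.toSpanSingleton _ _ (twPow hs d hU)

theorem trivMap_apply (hs : s ∈ 𝒜 1) (d : ℤ) {U : Opens (ProjectiveSpectrum.top 𝒜)}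
    (hU : NonVan s U) (c : Twist.O (𝒜 := 𝒜) (op U)) (x : U) :
    ((trivMap hs d hU c).1 x).1 = (c.1 x).val *
      Localization.mk (s ^ d.toNat) ⟨s ^ (-d).toNat, pow_notMem (hU x) _⟩ :=
  Twist.coe_smul_val d x.1 (c.1 x) ((twPow hs d hU).1 x)

theorem isUnit_twPow (d : ℤ) {x : ProjectiveSpectrum 𝒜} (hx : s ∉ x.asHomogeneousIdeal) :
    IsUnit (Localization.mk (s ^ d.toNat) ⟨s ^ (-d).toNat, pow_notMem hx _⟩ :
      Twist.Loc 𝒜 x) := by
  refine IsUnit.of_mul_eq_one (Localization.mk (s ^ (-d).toNat) ⟨s ^ d.toNat, pow_notMem hx _⟩) ?_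
  rw [Localization.mk_mul, ← Localization.mk_one, Localization.mk_eq_mk_iff, Localization.r_iff_exists]
  exact ⟨1, by simp [mul_comm]⟩

theorem mk_mul_twPow (d : ℤ) {x : ProjectiveSpectrum 𝒜} (hx : s ∉ x.asHomogeneousIdeal) (a t : A)
    (ht : t ∉ x.asHomogeneousIdeal) :
    (Localization.mk (a * s ^ (-d).toNat)
        ⟨t * s ^ d.toNat, mul_notMem ht (pow_notMem hx _)⟩ : Twist.Loc 𝒜 x) *
      Localization.mk (s ^ d.toNat) ⟨s ^ (-d).toNat, pow_notMem hx _⟩ = Localization.mk a ⟨t, ht⟩ := by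
  rw [Localization.mk_mul, Localization.mk_eq_mk_iff, Localization.r_iff_exists]
  exact ⟨1, by simp; ring⟩

theorem trivMap_bijective (hs : s ∈ 𝒜 1) (d : ℤ) {U : Opens (ProjectiveSpectrum.top 𝒜)}
    (hU : NonVan s U) : Function.Bijective (trivMap hs d hU) := by
  refine ⟨fun c c' h => ?_, fun f => ?_⟩
  · apply Subtype.ext
    funext x
    apply HomogeneousLocalization.val_injective
    have h' := congrArg (fun g => (g.1 x).1) h
    simp only [trivMap_apply] at h'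
    exact (isUnit_twPow d (hU x)).mul_left_inj.1 h'
  · have key : ∀ x : U, ∃ (V : Opens (ProjectiveSpectrum.top 𝒜)) (_ : x.1 ∈ V) (hV : V ≤ U)
        (i : ℕ) (r t : 𝒜 i) (nin : ∀ y : V, t.1 ∉ y.1.asHomogeneousIdeal), ∀ y : V,
          (f.1 ⟨y.1, hV y.2⟩).1 = (HomogeneousLocalization.mk (x := y.1.asHomogeneousIdeal.toIdeal.primeCompl)
              ⟨i, r, t, nin y⟩).val *
            Localization.mk (s ^ d.toNat) ⟨s ^ (-d).toNat, pow_notMem (hU ⟨y.1, hV y.2⟩) _⟩ := by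
      intro x
      obtain ⟨V, hxV, iV, p, q, ⟨a, ha⟩, ⟨t, ht⟩, nin, hdeg, w⟩ := f.2 x
      have hV : V ≤ U := leOfHom iV
      have nin' : ∀ y : V, t * s ^ d.toNat ∉ y.1.asHomogeneousIdeal := fun y =>
        mul_notMem (nin y) (pow_notMem (hU ⟨y.1, hV y.2⟩) _)
      have hmem : a * s ^ (-d).toNat ∈ 𝒜 (q + d.toNat) := by
        rcases hdeg with h | h
        · rw [show q + d.toNat = p + (-d).toNat by omega]
          exact SetLike.mul_mem_graded ha (pow_mem_one hs _)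
        · rw [show a * s ^ (-d).toNat = 0 by simp only at h; rw [h, zero_mul]]
          exact zero_mem _
      refine ⟨V, hxV, hV, q + d.toNat, ⟨_, hmem⟩,
        ⟨_, SetLike.mul_mem_graded ht (pow_mem_one hs _)⟩, nin', fun y => ?_⟩
      exact (w y).trans (mk_mul_twPow d (hU ⟨y.1, hV y.2⟩) a t (nin y)).symm
    choose V hxV hV i r t nin hw using key
    let c : ∀ x : U, Twist.A0 𝒜 x.1 := fun x =>
      HomogeneousLocalization.mk ⟨i x, r x, t x, nin x ⟨x.1, hxV x⟩⟩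
    refine ⟨⟨c, fun x => ⟨V x, hxV x, homOfLE (hV x), i x, r x, t x, nin x, fun y => ?_⟩⟩, ?_⟩
    · apply HomogeneousLocalization.val_injective
      refine (isUnit_twPow d (hU ⟨y.1, hV x y.2⟩)).mul_left_inj.1 ?_
      exact ((hw ⟨y.1, hV x y.2⟩ ⟨y.1, hxV _⟩).symm.trans (hw x y))
    · apply Subtype.ext
      funext x
      apply Subtype.ext
      rw [trivMap_apply]
      exact (hw x ⟨x.1, hxV x⟩).symm

/-- `O(d)` is trivial where `s` does not vanish. -/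
noncomputable def triv (hs : s ∈ 𝒜 1) (d : ℤ) {U : Opens (ProjectiveSpectrum.top 𝒜)}
    (hU : NonVan s U) : Twist.O (𝒜 := 𝒜) (op U) ≃ₗ[Twist.O (𝒜 := 𝒜) (op U)]
      Twist.sectN (𝒜 := 𝒜) d (op U) :=
  LinearEquiv.ofBijective (trivMap hs d hU) (trivMap_bijective hs d hU)

theorem triv_res (hs : s ∈ 𝒜 1) (d : ℤ) {U V : Opens (ProjectiveSpectrum.top 𝒜)}
    (hU : NonVan s U) (hV : NonVan s V) (i : V ⟶ U) (c : Twist.O (𝒜 := 𝒜) (op U)) :
    triv hs d hV ((ProjectiveSpectrum.Proj.structureSheaf 𝒜).1.map i.op c) =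
      Twist.resN d i.op (triv hs d hU c) := rfl

end Groth.Agent.PnCoh
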