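import Groth.Agent.PnCoh.Laurent
import Groth.Agent.QCoh.Ab.Cech

/-!
# The contracting homotopy of the Čech complex of projective space, monomial by monomial
-/

universe u v

open Groth.Agent.QCoh.Ab

namespace Groth.Agent.PnCoh

variable {ι : Type v} {R : Type u} [CommRing R]

/-- A coordinate where the exponent is nonnegative. -/
noncomputable def nonnegIdx [Nonempty ι] (e : Expo ι) : ι :=
  open Classical in if h : ∃ i, 0 ≤ e i then h.choose else Classical.arbitrary ι

theorem nonnegIdx_nonneg [Fintype ι] [Nonempty ι] {e : Expo ι}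
    (he : e.sum (fun _ z => z) = 0) : 0 ≤ e (nonnegIdx e) := by
  have h : ∃ i, 0 ≤ e i := by
    by_contra h
    push Not at h
    have h1 : e.sum (fun _ z => z) = ∑ i, e i := Finsupp.sum_fintype _ _ (fun _ => rfl)
    have h2 : ∑ i, e i < 0 := Finset.sum_neg (fun i _ => h i) Finset.univ_nonempty
    omega
  rw [nonnegIdx, dif_pos h]
  exact h.choose_spec

/-- Cochains of Laurent polynomials with the allowed supports. -/
def IsSupported {p : ℕ} (c : (Fin p → ι) → Laur ι R) : Prop :=
  ∀ σ, c σ ∈ AddMonoidAlgebra.supported R R (supp (Set.range σ))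

theorem isSupported_delta {p : ℕ} {c : (Fin p → ι) → Laur ι R} (hc : IsSupported c) :
    IsSupported (delta c) := fun τ =>
  Submodule.sum_mem _ fun a _ => zsmul_mem
    (AddMonoidAlgebra.supported_mono
      (show supp (Set.range fun b => τ (a.succAbove b)) ⊆ supp (Set.range τ) from
        fun e he => ⟨he.1, fun i hi => by
          obtain ⟨b, rfl⟩ := he.2 i hi
          exact ⟨_, rfl⟩⟩) (hc _)) _

/-- The part of a Laurent polynomial with prescribed value of `nonnegIdx`. -/
noncomputable def part [Nonempty ι] (i : ι) : Laur ι R →+ Laur ι R :=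
  open Classical in
  AddMonoidHom.mk' (fun p => .ofCoeff (p.coeff.filter fun e => nonnegIdx e = i)) fun a b => by
    ext e
    simp [Finsupp.filter_apply]

theorem part_coeff [Nonempty ι] (i : ι) (p : Laur ι R) (e : Expo ι) [DecidableEq ι] :
    (part i p).coeff e = if nonnegIdx e = i then p.coeff e else 0 := by
  classical
  simp [part, Finsupp.filter_apply]

theorem sum_part [Fintype ι] [Nonempty ι] (p : Laur ι R) : ∑ i, part i p = p := by
  classical
  ext e
  rw [AddMonoidAlgebra.coeff_sum, Finsupp.finsetSum_apply]
  simp [part_coeff]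

/-- Supported cocycles in positive degree are supported coboundaries. -/
theorem exists_delta_eq [Fintype ι] [Nonempty ι] {p : ℕ} (c : (Fin (p + 1) → ι) → Laur ι R)
    (hc : IsSupported c) (hd : ∀ τ, delta c τ = 0) :
    ∃ h : (Fin p → ι) → Laur ι R, IsSupported h ∧ ∀ σ, delta h σ = c σ := by
  classical
  refine ⟨fun σ => ∑ i, part i (c (Fin.cons i σ)), fun σ => ?_, fun τ => ?_⟩
  · refine Submodule.sum_mem _ fun i _ => AddMonoidAlgebra.mem_supported'.2 fun e he => ?_
    rw [part_coeff]
    split_ifs with hi
    · by_contra hne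
      have h := AddMonoidAlgebra.mem_supported.1 (hc (Fin.cons i σ)) (Finsupp.mem_support_iff.2 hne)
      refine he ⟨h.1, fun j hj => ?_⟩
      obtain ⟨a, ha⟩ := h.2 j hj
      induction a using Fin.cases with
      | zero =>
        simp only [Fin.cons_zero] at ha
        subst ha
        have := nonnegIdx_nonneg h.1
        rw [hi] at this
        omega
      | succ a => exact ⟨a, by simpa using ha⟩
    · rfl
  · have key : ∀ i, c τ = delta (fun ρ => c (Fin.cons i ρ)) τ := fun i => by
      have := hd (Fin.cons i τ)
      rwa [delta_cons, sub_eq_zero] at this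
    conv_rhs => rw [← sum_part (c τ)]
    simp only [delta, Finset.smul_sum]
    rw [Finset.sum_comm]
    refine Finset.sum_congr rfl fun i _ => ?_
    conv_rhs => rw [key i]
    simp only [delta, map_sum, map_zsmul]

/-- A supported zero-cocycle is a constant. -/
theorem eq_single_of_delta_eq_zero [Fintype ι] [Nonempty ι] {c : ι → Laur ι R}
    (hc : ∀ i, c i ∈ AddMonoidAlgebra.supported R R (supp {i})) (hd : ∀ i j, c i = c j) (i : ι) :
    c i = AddMonoidAlgebra.single 0 ((c i).coeff 0) := by
  classical
  ext e
  rw [AddMonoidAlgebra.coeff_single, Finsupp.single_apply]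
  split_ifs with h
  · rw [h]
  by_contra hne
  have hmem : ∀ j, e ∈ supp ({j} : Set ι) := fun j =>
    AddMonoidAlgebra.mem_supported.1 (hc j) (Finsupp.mem_support_iff.2 (hd i j ▸ hne))
  refine h (Finsupp.ext fun k => ?_).symm
  have hsum : ∑ k, e k = 0 := by
    rw [← (hmem k).1, Finsupp.sum_fintype _ _ (fun _ => rfl)]
  have hnn : ∀ l, 0 ≤ e l := by
    intro l
    by_contra hl
    push Not at hl
    obtain ⟨m, hm⟩ : ∃ m, 0 < e m := by
      by_contra hm
      push Not at hm
      have := Finset.sum_lt_sum (fun x (_ : x ∈ Finset.univ) => hm x) ⟨l, Finset.mem_univ _, hl⟩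
      simp at this
      omega
    have : l = m := (hmem m).2 l hl
    subst this
    omega
  exact ((Finset.sum_eq_zero_iff_of_nonneg fun x _ => hnn x).1 hsum k (Finset.mem_univ _))

end Groth.Agent.PnCoh
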