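import Groth.Agent.PnCoh.Sections
import Groth.Agent.PnCoh.TwistTriv

/-!
# Sections of `O(d)` on monomial basic opens of projective space, as Laurent polynomials
-/

universe u

open CategoryTheory AlgebraicGeometry MvPolynomial Opposite TopologicalSpace

namespace Groth.Agent.PnCoh

attribute [local instance] MvPolynomial.gradedAlgebra

variable {ι : Type} {R : Type u} [CommRing R]

/-- The exponents allowed in degree `d` with denominators supported in `s`. -/
def suppD (d : ℤ) (s : Set ι) : Set (Expo ι) :=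
  {e | e.sum (fun _ z => z) = d ∧ ∀ i, e i < 0 → i ∈ s}

theorem mem_homogeneous_X (i : ι) : (X i : MvPolynomial ι R) ∈ homogeneousSubmodule ι R 1 :=
  isHomogeneous_X _ _

/-- `X i` does not vanish on the opens below `D+(X i)`. -/
theorem nonVan_mOpen {g : ι →₀ ℕ} {i : ι} (hi : i ∈ g.support) :
    NonVan (𝒜 := homogeneousSubmodule ι R) (X i) (mOpen R g) := fun x hx => by
  refine x.2 ?_
  have hle : Finsupp.single i 1 ≤ g := by
    rw [Finsupp.single_le_iff]
    exact Nat.one_le_iff_ne_zero.2 (Finsupp.mem_support_iff.1 hi)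
  have h : monomial (g - Finsupp.single i 1) (1 : R) * X i ∈ x.1.asHomogeneousIdeal.toIdeal :=
    Ideal.mul_mem_left _ _ hx
  rw [X, ← monomial_add_eq, tsub_add_cancel_of_le hle] at h
  exact h

/-- An index in the support. -/
noncomputable def someIdx {g : ι →₀ ℕ} (hg : g ≠ 0) : ι :=
  (Finsupp.support_nonempty_iff.2 hg).choose

theorem someIdx_mem {g : ι →₀ ℕ} (hg : g ≠ 0) : someIdx hg ∈ g.support :=
  (Finsupp.support_nonempty_iff.2 hg).choose_spec

/-- The sections of `O(d)` over a monomial open. -/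
noncomputable abbrev TwSec (R : Type u) [CommRing R] (d : ℤ) (g : ι →₀ ℕ) : Type u :=
  Twist.sectN (𝒜 := homogeneousSubmodule ι R) d (op (mOpen R g))

/-- Laurent polynomial of a section of `O(d)` on a monomial open. -/
noncomputable def secTw (d : ℤ) (g : ι →₀ ℕ) (hg : g ≠ 0) : TwSec R d g →+ Laur ι R :=
  (AddMonoidHom.mulLeft (AddMonoidAlgebra.single (Finsupp.single (someIdx hg) d) (1 : R))).comp
    ((secL g hg).toAddMonoidHom.comp
      (triv (mem_homogeneous_X (someIdx hg)) d (nonVan_mOpen (someIdx_mem hg))).symm.toAddMonoidHom)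

theorem secTw_triv (d : ℤ) (g : ι →₀ ℕ) (hg : g ≠ 0)
    (c : Γ(Proj (homogeneousSubmodule ι R), mOpen R g)) :
    secTw d g hg (triv (mem_homogeneous_X (someIdx hg)) d (nonVan_mOpen (someIdx_mem hg)) c) =
      AddMonoidAlgebra.single (Finsupp.single (someIdx hg) d) (1 : R) * secL g hg c := by
  show _ * secL g hg ((triv _ d _).symm (triv _ d _ c)) = _
  rw [LinearEquiv.symm_apply_apply]

theorem exists_triv_eq (d : ℤ) (g : ι →₀ ℕ) (hg : g ≠ 0) (f : TwSec R d g) :
    ∃ c : Γ(Proj (homogeneousSubmodule ι R), mOpen R g),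
      triv (mem_homogeneous_X (someIdx hg)) d (nonVan_mOpen (someIdx_mem hg)) c = f :=
  ⟨(triv _ d _).symm f, LinearEquiv.apply_symm_apply _ _⟩

theorem secTw_injective (d : ℤ) (g : ι →₀ ℕ) (hg : g ≠ 0) :
    Function.Injective (secTw (R := R) d g hg) := by
  intro a b h
  obtain ⟨a, rfl⟩ := exists_triv_eq d g hg a
  obtain ⟨b, rfl⟩ := exists_triv_eq d g hg b
  rw [secTw_triv, secTw_triv] at h
  have hu : IsUnit (AddMonoidAlgebra.single (Finsupp.single (someIdx hg) d) (1 : R) : Laur ι R) :=
    IsUnit.of_mul_eq_one (AddMonoidAlgebra.single (-Finsupp.single (someIdx hg) d) 1)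
      (by rw [AddMonoidAlgebra.single_mul_single, add_neg_cancel, one_mul]; rfl)
  rw [secL_injective g hg (hu.mul_left_cancel h)]

theorem single_mul_mem_supported {e : Expo ι} {s t : Set (Expo ι)} (hst : ∀ x ∈ s, e + x ∈ t)
    {p : Laur ι R} (hp : p ∈ AddMonoidAlgebra.supported R R s) :
    AddMonoidAlgebra.single e (1 : R) * p ∈ AddMonoidAlgebra.supported R R t := by
  rw [AddMonoidAlgebra.supported_eq_span_single] at hp
  induction hp using Submodule.span_induction with
  | mem _ hx =>
    obtain ⟨a, ha, rfl⟩ := hx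
    rw [AddMonoidAlgebra.single_mul_single, mul_one, AddMonoidAlgebra.supported_eq_span_single]
    exact Submodule.subset_span ⟨_, hst a ha, rfl⟩
  | zero => rw [mul_zero]; exact Submodule.zero_mem _
  | add _ _ _ _ ha hb => rw [mul_add]; exact Submodule.add_mem _ ha hb
  | smul r x _ hx => rw [mul_smul_comm]; exact Submodule.smul_mem _ r hx

theorem sum_single_add (i : ι) (d : ℤ) (x : Expo ι) :
    (Finsupp.single i d + x).sum (fun _ z => z) = d + x.sum (fun _ z => z) := by
  rw [Finsupp.sum_add_index' (fun _ => rfl) (fun _ _ _ => rfl), Finsupp.sum_single_index rfl]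

theorem single_add_mem_suppD {g : ι →₀ ℕ} {i : ι} (hi : i ∈ g.support) (d d' : ℤ) {x : Expo ι}
    (hx : x ∈ suppD d' (g.support : Set ι)) :
    Finsupp.single i d + x ∈ suppD (d + d') (g.support : Set ι) := by
  refine ⟨by rw [sum_single_add, hx.1], fun j hj => ?_⟩
  classical
  by_cases h : i = j
  · exact h ▸ hi
  · rw [Finsupp.add_apply, Finsupp.single_apply, if_neg h, zero_add] at hj
    exact hx.2 j hj

theorem secTw_mem (d : ℤ) (g : ι →₀ ℕ) (hg : g ≠ 0) (f : TwSec R d g) :
    secTw d g hg f ∈ AddMonoidAlgebra.supported R R (suppD d (g.support : Set ι)) := by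
  obtain ⟨c, rfl⟩ := exists_triv_eq d g hg f
  rw [secTw_triv]
  exact single_mul_mem_supported
    (fun x hx => by simpa using single_add_mem_suppD (someIdx_mem hg) d 0 hx) (secL_mem g hg c)

theorem exists_secTw_eq (d : ℤ) (g : ι →₀ ℕ) (hg : g ≠ 0) {p : Laur ι R}
    (hp : p ∈ AddMonoidAlgebra.supported R R (suppD d (g.support : Set ι))) :
    ∃ f, secTw d g hg f = p := by
  obtain ⟨c, hc⟩ := exists_secL_eq g hg (single_mul_mem_supported
    (e := Finsupp.single (someIdx hg) (-d)) (fun x hx => by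
      have h := single_add_mem_suppD (someIdx_mem hg) (-d) d hx
      rwa [neg_add_cancel] at h) hp)
  refine ⟨triv (mem_homogeneous_X (someIdx hg)) d (nonVan_mOpen (someIdx_mem hg)) c, ?_⟩
  rw [secTw_triv, hc, ← mul_assoc, AddMonoidAlgebra.single_mul_single, ← Finsupp.single_add,
    add_neg_cancel, Finsupp.single_zero, mul_one]
  exact one_mul p

/-- `f` is given by the fraction `a / T^(k g)`. -/
def IsRep (d : ℤ) (g : ι →₀ ℕ) (f : TwSec R d g) (a : MvPolynomial ι R) (k : ℕ) : Prop :=
  (∃ m : ℕ, (m : ℤ) = k * g.degree + d ∧ a.IsHomogeneous m) ∧ ∀ x : mOpen R g,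
    (f.1 x).1 = Localization.mk a ⟨monomial g (1 : R) ^ k, pow_notMem x.2 k⟩

theorem le_of_mem_support {g : ι →₀ ℕ} {i : ι} (hi : i ∈ g.support) : Finsupp.single i 1 ≤ g := by
  rw [Finsupp.single_le_iff]
  exact Nat.one_le_iff_ne_zero.2 (Finsupp.mem_support_iff.1 hi)

theorem X_mul_monomial {g : ι →₀ ℕ} {i : ι} (hi : i ∈ g.support) :
    (X i : MvPolynomial ι R) * monomial (g - Finsupp.single i 1) 1 = monomial g 1 := by
  rw [X, ← monomial_add_eq, add_tsub_cancel_of_le (le_of_mem_support hi)]

theorem degree_sub {g : ι →₀ ℕ} {i : ι} (hi : i ∈ g.support) :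
    (g - Finsupp.single i 1).degree + 1 = g.degree := by
  conv_rhs => rw [← tsub_add_cancel_of_le (le_of_mem_support hi), map_add, Finsupp.degree_single]

theorem triv_awayToSection (d : ℤ) {g : ι →₀ ℕ} {i : ι} (hi : i ∈ g.support) (k : ℕ)
    (b : MvPolynomial ι R) (hb : b ∈ homogeneousSubmodule ι R (k • g.degree)) (x : mOpen R g) :
    ((triv (mem_homogeneous_X i) d (nonVan_mOpen hi)
      ((Proj.awayToSection _ _).hom
        (HomogeneousLocalization.Away.mk _ (monomial_mem_homogeneous g) k b hb))).1 x).1 =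
      Localization.mk (b * X i ^ d.toNat)
        ⟨monomial g (1 : R) ^ k * X i ^ (-d).toNat,
          mul_notMem (pow_notMem x.2 k) (pow_notMem (nonVan_mOpen hi x) _)⟩ := by
  refine (trivMap_apply _ d _ _ x).trans ?_
  erw [ProjectiveSpectrum.Proj.awayToSection_apply]
  rw [HomogeneousLocalization.Away.val_mk, Localization.mk_eq_mk'_apply, IsLocalization.map_mk',
    ← Localization.mk_eq_mk'_apply, Localization.mk_mul]
  rfl

theorem exists_isRep (d : ℤ) (g : ι →₀ ℕ) (hg : g ≠ 0) (f : TwSec R d g) :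
    ∃ a k, IsRep d g f a k := by
  obtain ⟨c, rfl⟩ := exists_triv_eq d g hg f
  obtain ⟨y, rfl⟩ := exists_awayToSection g hg c
  obtain ⟨k, b, hb, rfl⟩ :=
    HomogeneousLocalization.Away.mk_surjective _ (monomial_mem_homogeneous g) y
  set i := someIdx hg
  set h := g - Finsupp.single i 1
  refine ⟨b * X i ^ d.toNat * monomial h (1 : R) ^ (-d).toNat, k + (-d).toNat,
    ⟨k • g.degree + 1 * d.toNat + h.degree * (-d).toNat, ?_,
      (hb.mul ((isHomogeneous_X _ i).pow _)).mul ((isHomogeneous_monomial _ rfl).pow _)⟩, fun x => ?_⟩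
  · have h1 : (h.degree : ℤ) + 1 = g.degree := by exact_mod_cast degree_sub (someIdx_mem hg)
    have h2 := Int.toNat_sub_toNat_neg d
    push_cast
    rw [smul_eq_mul, Nat.cast_mul]
    linear_combination ((-d).toNat : ℤ) * h1 + h2
  · rw [triv_awayToSection d (someIdx_mem hg), Localization.mk_eq_mk_iff, Localization.r_iff_exists]
    refine ⟨1, ?_⟩
    simp only [OneMemClass.coe_one, one_mul, pow_add]
    rw [← X_mul_monomial (someIdx_mem hg), mul_pow (X i) _ (-d).toNat]
    ring

theorem secTw_eq_of_isRep {d : ℤ} {g : ι →₀ ℕ} (hg : g ≠ 0) {f : TwSec R d g}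
    {a : MvPolynomial ι R} {k : ℕ} (hf : IsRep d g f a k) :
    secTw d g hg f = toLaur ι R a * AddMonoidAlgebra.single (-(k • castExpo ι g)) 1 := by
  obtain ⟨⟨m, hm, ha⟩, hf⟩ := hf
  set i := someIdx hg with hi
  set h := g - Finsupp.single i 1 with hh
  have h1 : (h.degree : ℤ) + 1 = g.degree := by exact_mod_cast degree_sub (someIdx_mem hg)
  have h2 := Int.toNat_sub_toNat_neg d
  have hb : a * X i ^ (-d).toNat * monomial h (1 : R) ^ d.toNat ∈
      homogeneousSubmodule ι R ((k + d.toNat) • g.degree) := by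
    rw [show (k + d.toNat) • g.degree = m + 1 * (-d).toNat + h.degree * d.toNat by
      zify [smul_eq_mul]
      linear_combination - ((d.toNat : ℤ)) * h1 - hm + h2]
    exact (ha.mul ((isHomogeneous_X _ i).pow _)).mul ((isHomogeneous_monomial _ rfl).pow _)
  have heq : f = triv (mem_homogeneous_X i) d (nonVan_mOpen (someIdx_mem hg))
      ((Proj.awayToSection _ _).hom
        (HomogeneousLocalization.Away.mk _ (monomial_mem_homogeneous g) (k + d.toNat) _ hb)) := by
    refine Subtype.ext (funext fun x => Subtype.ext ?_)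
    rw [hf x, triv_awayToSection d (someIdx_mem hg), Localization.mk_eq_mk_iff, Localization.r_iff_exists]
    refine ⟨1, ?_⟩
    simp only [OneMemClass.coe_one, one_mul, pow_add]
    rw [← X_mul_monomial (someIdx_mem hg), mul_pow (X i) _ d.toNat]
    ring
  rw [heq, secTw_triv, secL_awayToSection, awayToLaur_apply, HomogeneousLocalization.Away.val_mk,
    locToLaur_mk, map_mul, map_mul, map_pow, map_pow, X, toLaur_monomial, toLaur_monomial,
    AddMonoidAlgebra.single_pow, AddMonoidAlgebra.single_pow, one_pow, one_pow,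
    mul_assoc (toLaur ι R a), mul_assoc (toLaur ι R a), AddMonoidAlgebra.single_mul_single,
    AddMonoidAlgebra.single_mul_single, mul_left_comm, AddMonoidAlgebra.single_mul_single]
  simp only [mul_one]
  congr 2
  ext j
  have hj : h j + Finsupp.single i 1 j = g j := by
    rw [hh, ← Finsupp.add_apply, tsub_add_cancel_of_le (le_of_mem_support (someIdx_mem hg))]
  classical
  simp only [Finsupp.add_apply, Finsupp.neg_apply, Finsupp.smul_apply, castExpo_apply,
    Finsupp.single_apply, nsmul_eq_mul] at hj ⊢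
  rw [← hi]
  split_ifs at hj ⊢ with hij <;> push_cast <;> rw [← hj] <;> push_cast
  · linear_combination -h2
  · ring

theorem secTw_res (d : ℤ) {g g' : ι →₀ ℕ} (h : ι →₀ ℕ) (hgh : g' = g + h) (hg : g ≠ 0)
    (hg' : g' ≠ 0) (j : mOpen R g' ⟶ mOpen R g) (f : TwSec R d g) :
    secTw d g' hg' (Twist.resN d j.op f) = secTw d g hg f := by
  subst hgh
  obtain ⟨a, k, hr⟩ := exists_isRep d g hg f
  have hr' : IsRep d (g + h) (Twist.resN d j.op f) (a * monomial h (1 : R) ^ k) k := by
    obtain ⟨⟨m, hm, ha⟩, hf⟩ := hr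
    refine ⟨⟨m + h.degree * k, ?_, ha.mul ((isHomogeneous_monomial _ rfl).pow _)⟩, fun x => ?_⟩
    · rw [map_add]
      push_cast
      linear_combination hm
    · refine (hf ⟨x.1, leOfHom j x.2⟩).trans ?_
      rw [Localization.mk_eq_mk_iff, Localization.r_iff_exists]
      refine ⟨1, ?_⟩
      simp only [OneMemClass.coe_one, one_mul, monomial_add_eq, mul_pow]
      ring
  rw [secTw_eq_of_isRep hg' hr', secTw_eq_of_isRep hg hr, map_mul, map_pow, toLaur_monomial,
    AddMonoidAlgebra.single_pow, one_pow, mul_assoc, AddMonoidAlgebra.single_mul_single, mul_one,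
    map_add, nsmul_add, neg_add, ← add_assoc, add_right_comm, add_neg_cancel, zero_add]

end Groth.Agent.PnCoh
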