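import Groth.Agent.PnCoh.Homotopy
import Groth.Agent.PnCoh.TwistSections
import Mathlib.LinearAlgebra.Matrix.ToLinearEquiv
import Mathlib.GroupTheory.Perm.Sign

/-!
# Supported cochains of degree `d` and their bottom part
-/

universe u v

open Groth.Agent.QCoh.Ab

namespace Groth.Agent.PnCoh

variable {ι : Type} {R : Type u} [CommRing R]

/-- Cochains of Laurent polynomials with the supports allowed in degree `d`. -/
def IsSuppD (d : ℤ) {p : ℕ} (c : (Fin p → ι) → Laur ι R) : Prop :=
  ∀ σ, c σ ∈ AddMonoidAlgebra.supported R R (suppD d (Set.range σ))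

/-- All exponents are negative. -/
def IsBottom (e : Expo ι) : Prop := ∀ i, e i < 0

theorem coeff_eq_zero_of_not_surjective {d : ℤ} {p : ℕ} {c : (Fin p → ι) → Laur ι R}
    (hc : IsSuppD d c) {σ : Fin p → ι} (hσ : ¬ Function.Surjective σ) {e : Expo ι}
    (he : IsBottom e) : (c σ).coeff e = 0 :=
  AddMonoidAlgebra.mem_supported'.1 (hc σ) e fun h => hσ fun i => h.2 i (he i)

/-- Supported cocycles without bottom part are supported coboundaries. -/
theorem exists_delta_eqD [Fintype ι] [Nonempty ι] (d : ℤ) {p : ℕ}
    (c : (Fin (p + 1) → ι) → Laur ι R) (hc : IsSuppD d c)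
    (hb : ∀ σ e, IsBottom e → (c σ).coeff e = 0) (hd : ∀ τ, delta c τ = 0) :
    ∃ h : (Fin p → ι) → Laur ι R, IsSuppD d h ∧ ∀ σ, delta h σ = c σ := by
  classical
  refine ⟨fun σ => ∑ i, part i (c (Fin.cons i σ)), fun σ => ?_, fun τ => ?_⟩
  · refine Submodule.sum_mem _ fun i _ => AddMonoidAlgebra.mem_supported'.2 fun e he => ?_
    rw [part_coeff]
    split_ifs with hi
    · by_contra hne
      have h := AddMonoidAlgebra.mem_supported.1 (hc (Fin.cons i σ)) (Finsupp.mem_support_iff.2 hne)
      have hnn : ∃ k, 0 ≤ e k := by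
        by_contra hk
        push Not at hk
        exact hne (hb _ e hk)
      have hi' : 0 ≤ e i := by
        rw [← hi, nonnegIdx, dif_pos hnn]
        exact hnn.choose_spec
      refine he ⟨h.1, fun j hj => ?_⟩
      obtain ⟨a, ha⟩ := h.2 j hj
      induction a using Fin.cases with
      | zero =>
        simp only [Fin.cons_zero] at ha
        subst ha
        omega
      | succ a => exact ⟨a, by simpa using ha⟩
    · rfl
  · have key : ∀ i, c τ = delta (fun ρ => c (Fin.cons i ρ)) τ := fun i => by
      have := hd (Fin.cons i τ)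
      rwa [delta_cons, sub_eq_zero] at this
    conv_rhs => rw [← sum_part (c τ)]
    simp only [delta, Finset.smul_sum]
    rw [Finset.sum_comm]
    refine Finset.sum_congr rfl fun i _ => ?_
    conv_rhs => rw [key i]
    simp only [delta, map_sum, map_zsmul]

/-- No bottom part when there are too few slots. -/
theorem bottom_zero_of_card [Fintype ι] {d : ℤ} {p : ℕ} {c : (Fin p → ι) → Laur ι R}
    (hc : IsSuppD d c) (hp : p < Fintype.card ι) (σ : Fin p → ι) (e : Expo ι) (he : IsBottom e) :
    (c σ).coeff e = 0 :=
  coeff_eq_zero_of_not_surjective hc (fun hs => by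
    have := Fintype.card_le_of_surjective σ hs
    simp only [Fintype.card_fin] at this
    omega) he

theorem sum_le_of_bottom [Fintype ι] {e : Expo ι} (he : IsBottom e) :
    e.sum (fun _ z => z) ≤ -(Fintype.card ι : ℤ) := by
  rw [Finsupp.sum_fintype _ _ (fun _ => rfl)]
  refine (Finset.sum_le_sum (g := fun _ => (-1 : ℤ)) fun i _ => by have := he i; omega).trans ?_
  simp

/-- No bottom part in degrees above `-(n+1)`. -/
theorem bottom_zero_of_degree [Fintype ι] {d : ℤ} {p : ℕ} {c : (Fin p → ι) → Laur ι R}
    (hc : IsSuppD d c) (hd : -(Fintype.card ι : ℤ) < d) (σ : Fin p → ι) (e : Expo ι)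
    (he : IsBottom e) : (c σ).coeff e = 0 :=
  AddMonoidAlgebra.mem_supported'.1 (hc σ) e fun h => by
    have := sum_le_of_bottom he
    have := h.1
    omega

section Top

variable {m : ℕ}

/-- The incidence matrix of a tuple. -/
def incid (σ : Fin (m + 1) → Fin (m + 1)) : Matrix (Fin (m + 1)) (Fin (m + 1)) ℤ :=
  Matrix.of fun a j => if σ a = j then 1 else 0

/-- The sign of a tuple (zero unless it is a permutation). -/
def tupSign (σ : Fin (m + 1) → Fin (m + 1)) : ℤ := (incid σ).det

theorem tupSign_id : tupSign (id : Fin (m + 1) → Fin (m + 1)) = 1 := by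
  rw [tupSign, show incid (id : Fin (m + 1) → Fin (m + 1)) = 1 from Matrix.ext fun a j => by
    simp [incid, Matrix.one_apply], Matrix.det_one]

theorem tupSign_eq_zero {σ : Fin (m + 1) → Fin (m + 1)} (h : ¬ Function.Surjective σ) :
    tupSign σ = 0 := by
  rw [Function.Surjective] at h
  push Not at h
  obtain ⟨j, hj⟩ := h
  exact Matrix.det_eq_zero_of_column_eq_zero j fun a => by simp [incid, hj a]

/-- The sign is a cocycle. -/
theorem delta_tupSign (τ : Fin (m + 2) → Fin (m + 1)) : delta tupSign τ = 0 := by
  classical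
  let M : Matrix (Fin (m + 2)) (Fin (m + 2)) ℤ :=
    Matrix.of fun a j => Fin.cases 1 (fun j => if τ a = j then 1 else 0) j
  have hdet : M.det = 0 := by
    refine Matrix.exists_mulVec_eq_zero_iff.1 ⟨Fin.cases 1 (fun _ => -1), fun h => ?_, ?_⟩
    · simpa using congrFun h 0
    · funext a
      simp [Matrix.mulVec, dotProduct, Fin.sum_univ_succ (n := m + 1), M]
  rw [Matrix.det_succ_column_zero] at hdet
  refine Eq.trans (Finset.sum_congr rfl fun a _ => ?_) hdet
  simp only [M, Matrix.of_apply, Fin.cases_zero, mul_one, smul_eq_mul]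
  rfl

/-- A cocycle with vanishing bottom part at the identity tuple has vanishing bottom part. -/
theorem bottom_zero_of_id {d : ℤ} {c : (Fin (m + 1) → Fin (m + 1)) → Laur (Fin (m + 1)) R}
    (hc : IsSuppD d c) (hd : ∀ τ, delta c τ = 0) (e : Expo (Fin (m + 1))) (he : IsBottom e)
    (h0 : (c id).coeff e = 0) (σ : Fin (m + 1) → Fin (m + 1)) : (c σ).coeff e = 0 := by
  classical
  by_cases hσ : Function.Surjective σ
  swap
  · exact coeff_eq_zero_of_not_surjective hc hσ he
  obtain ⟨π, rfl⟩ : ∃ π : Equiv.Perm (Fin (m + 1)), (π : Fin (m + 1) → Fin (m + 1)) = σ :=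
    ⟨Equiv.ofBijective σ (Finite.injective_iff_surjective.2 hσ |> fun h => ⟨h, hσ⟩), rfl⟩
  have step : ∀ (π : Equiv.Perm (Fin (m + 1))) (a : Fin m),
      (c π).coeff e + (c (π * Equiv.swap a.castSucc a.succ : Equiv.Perm _)).coeff e = 0 := by
    intro π a
    let τ : Fin (m + 2) → Fin (m + 1) := a.castSucc.castSucc.insertNth (π a.succ) π
    have h1 : (fun b => τ (a.castSucc.castSucc.succAbove b)) = π :=
      funext fun b => Fin.insertNth_apply_succAbove _ _ _ _
    have h2 : (fun b => τ (a.succ.succ.succAbove b)) =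
        ⇑(π * Equiv.swap a.castSucc a.succ) := funext fun b => by
      rcases lt_trichotomy (b : ℕ) (a : ℕ) with hb | hb | hb
      · rw [Fin.succAbove_of_castSucc_lt _ _ (by rw [Fin.lt_def]; simp; omega),
          Equiv.Perm.mul_apply, Equiv.swap_apply_of_ne_of_ne (by rw [Ne, Fin.ext_iff]; simp; omega)
            (by rw [Ne, Fin.ext_iff]; simp; omega),
          show b.castSucc = a.castSucc.castSucc.succAbove b by
            rw [Fin.succAbove_of_castSucc_lt _ _ (by rw [Fin.lt_def]; simp; omega)]]
        exact Fin.insertNth_apply_succAbove _ _ _ _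
      · obtain rfl : b = a.castSucc := Fin.ext hb
        rw [Fin.succAbove_of_castSucc_lt _ _ (by rw [Fin.lt_def]; simp),
          Equiv.Perm.mul_apply, Equiv.swap_apply_left]
        exact Fin.insertNth_apply_same _ _ _
      · rcases Nat.lt_or_ge (b : ℕ) (a + 2) with hb2 | hb2
        · obtain rfl : b = a.succ := Fin.ext (by simp; omega)
          rw [Fin.succAbove_of_castSucc_lt _ _ (by rw [Fin.lt_def]; simp),
            Equiv.Perm.mul_apply, Equiv.swap_apply_right,
            show a.succ.castSucc = a.castSucc.castSucc.succAbove a.castSucc by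
              rw [Fin.succAbove_of_le_castSucc _ _ le_rfl]; rfl]
          exact Fin.insertNth_apply_succAbove _ _ _ _
        · rw [Fin.succAbove_of_le_castSucc _ _ (by rw [Fin.le_def]; simp; omega),
            Equiv.Perm.mul_apply, Equiv.swap_apply_of_ne_of_ne (by rw [Ne, Fin.ext_iff]; simp; omega)
              (by rw [Ne, Fin.ext_iff]; simp; omega),
            show b.succ = a.castSucc.castSucc.succAbove b by
              rw [Fin.succAbove_of_le_castSucc _ _ (by rw [Fin.le_def]; simp; omega)]]
          exact Fin.insertNth_apply_succAbove _ _ _ _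
    have hz : ∀ k : Fin (m + 2), k ≠ a.castSucc.castSucc → k ≠ a.succ.succ →
        (c fun b => τ (k.succAbove b)).coeff e = 0 := fun k hk1 hk2 => by
      refine coeff_eq_zero_of_not_surjective hc (fun hs => ?_) he
      have hinj := Finite.injective_iff_surjective.2 hs
      obtain ⟨b₁, hb₁⟩ := Fin.exists_succAbove_eq (Ne.symm hk1)
      obtain ⟨b₂, hb₂⟩ := Fin.exists_succAbove_eq (Ne.symm hk2)
      have heq : τ a.castSucc.castSucc = τ a.succ.succ := by
        rw [show a.succ.succ = a.castSucc.castSucc.succAbove a.succ by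
          rw [Fin.succAbove_of_le_castSucc _ _ (by rw [Fin.le_def]; simp)]]
        simp only [τ, Fin.insertNth_apply_same, Fin.insertNth_apply_succAbove]
      have hb : b₁ = b₂ := hinj (by simp only [hb₁, hb₂, heq])
      rw [hb, hb₂, Fin.ext_iff] at hb₁
      simp at hb₁
      omega
    have hne : a.castSucc.castSucc ≠ a.succ.succ := fun h => by simp [Fin.ext_iff] at h; omega
    have := congrArg (fun p : Laur (Fin (m + 1)) R => p.coeff e) (hd τ)
    simp only [delta, AddMonoidAlgebra.coeff_sum, Finsupp.finsetSum_apply,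
      AddMonoidAlgebra.coeff_smul, Finsupp.smul_apply, AddMonoidAlgebra.coeff_zero,
      Finsupp.zero_apply] at this
    rw [← Finset.sum_subset (Finset.subset_univ {a.castSucc.castSucc, a.succ.succ})
      (fun k _ hk => by
        simp only [Finset.mem_insert, Finset.mem_singleton, not_or] at hk
        rw [hz k hk.1 hk.2, smul_zero]), Finset.sum_pair hne, h1, h2] at this
    simp only [Fin.val_castSucc, Fin.val_succ, pow_succ, mul_neg, mul_one, neg_neg, ← smul_add]
      at this
    rcases neg_one_pow_eq_or ℤ (a : ℕ) with h | h <;> rw [h] at this <;>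
      simp [add_eq_zero_iff_eq_neg] at this ⊢
    · exact this
    · linear_combination - this
  have hmem : π ∈ Submonoid.closure (Set.range fun a : Fin m ↦ Equiv.swap a.castSucc a.succ) := by
    rw [Equiv.Perm.mclosure_swap_castSucc_succ]; trivial
  induction hmem using Submonoid.closure_induction_right with
  | one => exact h0
  | mul_right x _ y hy ih =>
    obtain ⟨a, rfl⟩ := hy
    have := step x a
    rw [ih (Finite.injective_iff_surjective.1 x.injective), zero_add] at this
    exact this

/-- The cocycle with prescribed bottom part at the identity. -/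
noncomputable def bottomCocycle (p : Laur (Fin (m + 1)) R) (σ : Fin (m + 1) → Fin (m + 1)) :
    Laur (Fin (m + 1)) R :=
  tupSign σ • p

theorem isSuppD_bottomCocycle {d : ℤ} {p : Laur (Fin (m + 1)) R}
    (hp : p ∈ AddMonoidAlgebra.supported R R {e | e.sum (fun _ z => z) = d ∧ IsBottom e}) :
    IsSuppD d (bottomCocycle p) := by
  intro σ
  by_cases hσ : Function.Surjective σ
  · refine zsmul_mem (AddMonoidAlgebra.supported_mono
      (show {e : Expo (Fin (m + 1)) | e.sum (fun _ z => z) = d ∧ IsBottom e} ⊆
        suppD d (Set.range σ) from fun e he => ⟨he.1, fun i _ => hσ i⟩) hp) _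
  · rw [bottomCocycle, tupSign_eq_zero hσ, zero_smul]
    exact Submodule.zero_mem _

theorem delta_bottomCocycle (p : Laur (Fin (m + 1)) R) (τ : Fin (m + 2) → Fin (m + 1)) :
    delta (bottomCocycle p) τ = 0 := by
  have := congrArg (fun z : ℤ => z • p) (delta_tupSign τ)
  simp only [delta, Finset.sum_smul, zero_smul, smul_assoc] at this
  exact this

theorem bottomCocycle_id (p : Laur (Fin (m + 1)) R) : bottomCocycle p id = p := by
  rw [bottomCocycle, tupSign_id, one_smul]

end Top

end Groth.Agent.PnCoh
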