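import Mathlib.RingTheory.GradedAlgebra.HomogeneousLocalization
import Mathlib.RingTheory.MvPolynomial.Homogeneous
import Mathlib.Algebra.MonoidAlgebra.MapDomain
import Mathlib.Algebra.MonoidAlgebra.Module
import Mathlib.Algebra.BigOperators.Fin

/-!
# Homogeneous localizations of a polynomial ring at monomials, inside Laurent polynomials
-/

universe u v

open HomogeneousLocalization MvPolynomial

namespace Groth.Agent.PnCoh

variable (ι : Type v) (R : Type u) [CommRing R]

/-- Exponents of Laurent monomials. -/
abbrev Expo : Type v := ι →₀ ℤ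

/-- Laurent polynomials. -/
abbrev Laur : Type max u v := AddMonoidAlgebra R (Expo ι)

/-- The exponent map. -/
noncomputable def castExpo : (ι →₀ ℕ) →+ Expo ι :=
  Finsupp.mapRange.addMonoidHom (Nat.castAddMonoidHom ℤ)

/-- Polynomials into Laurent polynomials. -/
noncomputable def toLaur : MvPolynomial ι R →+* Laur ι R :=
  AddMonoidAlgebra.mapDomainRingHom R (castExpo ι)

variable {ι R}

theorem castExpo_apply (a : ι →₀ ℕ) (i : ι) : castExpo ι a i = (a i : ℤ) := by
  simp [castExpo]

theorem castExpo_injective : Function.Injective (castExpo ι) := by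
  intro a b h
  ext i
  simpa [castExpo_apply] using DFunLike.congr_fun h i

theorem toLaur_monomial (a : ι →₀ ℕ) (r : R) :
    toLaur ι R (monomial a r) = AddMonoidAlgebra.single (castExpo ι a) r :=
  AddMonoidAlgebra.mapDomain_single ..

theorem toLaur_injective : Function.Injective (toLaur ι R) :=
  AddMonoidAlgebra.mapDomain_injective castExpo_injective

/-- The exponents allowed in degree zero with denominators supported in `s`. -/
def supp (s : Set ι) : Set (Expo ι) :=
  {e | e.sum (fun _ z => z) = 0 ∧ ∀ i, e i < 0 → i ∈ s}

section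

variable (g : ι →₀ ℕ)

theorem isUnit_toLaur_monomial : IsUnit (toLaur ι R (monomial g 1)) := by
  refine IsUnit.of_mul_eq_one (AddMonoidAlgebra.single (- castExpo ι g) 1) ?_
  rw [toLaur_monomial, AddMonoidAlgebra.single_mul_single, add_neg_cancel, one_mul]
  rfl

/-- The lift to the localization away from a monomial. -/
noncomputable def locToLaur : Localization.Away (monomial g (1 : R)) →+* Laur ι R :=
  Localization.awayLift (toLaur ι R) _ (isUnit_toLaur_monomial g)

theorem locToLaur_injective : Function.Injective (locToLaur (R := R) g) := by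
  refine (injective_iff_map_eq_zero _).2 fun z hz => ?_
  obtain ⟨k, p, h⟩ := IsLocalization.Away.surj (monomial g (1 : R)) z
  have h1 := congrArg (locToLaur g) h
  rw [map_mul, hz, zero_mul, locToLaur, Localization.awayLift, IsLocalization.Away.lift_eq] at h1
  rw [show p = 0 from toLaur_injective (h1.symm.trans (map_zero _).symm), map_zero] at h
  exact ((IsLocalization.Away.algebraMap_isUnit (monomial g (1 : R))).pow k).mul_left_eq_zero.1 h

theorem locToLaur_mk (p : MvPolynomial ι R) (k : ℕ) :
    locToLaur g (Localization.mk p ⟨monomial g (1 : R) ^ k, k, rfl⟩) =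
      toLaur ι R p * AddMonoidAlgebra.single (-(k • castExpo ι g)) 1 := by
  have hu : (AddMonoidAlgebra.single (-(k • castExpo ι g)) 1 : Laur ι R) *
      AddMonoidAlgebra.single (k • castExpo ι g) 1 = 1 := by
    rw [AddMonoidAlgebra.single_mul_single, neg_add_cancel, one_mul]; rfl
  have h1 : toLaur ι R (monomial g (1 : R) ^ k) = AddMonoidAlgebra.single (k • castExpo ι g) 1 := by
    rw [monomial_pow, toLaur_monomial, map_nsmul, one_pow]
  have h2 : locToLaur g (Localization.mk p ⟨monomial g (1 : R) ^ k, k, rfl⟩) *
      toLaur ι R (monomial g (1 : R) ^ k) = toLaur ι R p := by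
    have h := congrArg (locToLaur g) (IsLocalization.mk'_spec (Localization.Away (monomial g (1 : R)))
      p (⟨monomial g (1 : R) ^ k, k, rfl⟩ : Submonoid.powers (monomial g (1 : R))))
    rw [← Localization.mk_eq_mk'_apply, map_mul] at h
    simpa only [locToLaur, Localization.awayLift, IsLocalization.Away.lift_eq] using h
  calc locToLaur g _ = locToLaur g (Localization.mk p ⟨monomial g (1 : R) ^ k, k, rfl⟩) *
      (toLaur ι R (monomial g (1 : R) ^ k) *
        AddMonoidAlgebra.single (-(k • castExpo ι g)) 1) := by rw [h1, mul_comm _ (AddMonoidAlgebra.single _ _), hu, mul_one]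
    _ = _ := by rw [← mul_assoc, h2]

attribute [local instance] MvPolynomial.gradedAlgebra

/-- The homogeneous localization away from a monomial, inside Laurent polynomials. -/
noncomputable def awayToLaur :
    HomogeneousLocalization.Away (homogeneousSubmodule ι R) (monomial g (1 : R)) →+* Laur ι R :=
  (locToLaur g).comp (algebraMap _ (Localization.Away (monomial g (1 : R))))

theorem awayToLaur_apply
    (x : HomogeneousLocalization.Away (homogeneousSubmodule ι R) (monomial g (1 : R))) :
    awayToLaur g x = locToLaur g x.val := rfl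

theorem awayToLaur_injective : Function.Injective (awayToLaur (R := R) g) :=
  (locToLaur_injective g).comp (val_injective _)

theorem sum_castExpo (a : ι →₀ ℕ) : (castExpo ι a).sum (fun _ z => z) = (a.degree : ℤ) := by
  rw [castExpo, Finsupp.mapRange.addMonoidHom_apply, Finsupp.sum_mapRange_index (fun _ => rfl)]
  simp [Finsupp.degree, Finsupp.sum]

theorem monomial_mem_homogeneous : monomial g (1 : R) ∈ homogeneousSubmodule ι R g.degree :=
  isHomogeneous_monomial _ rfl

theorem awayToLaur_mem
    (x : HomogeneousLocalization.Away (homogeneousSubmodule ι R) (monomial g (1 : R))) :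
    awayToLaur g x ∈ AddMonoidAlgebra.supported R R (supp (g.support : Set ι)) := by
  obtain ⟨k, p, hp, rfl⟩ := HomogeneousLocalization.Away.mk_surjective _
    (monomial_mem_homogeneous g) x
  rw [awayToLaur_apply, HomogeneousLocalization.Away.val_mk, locToLaur_mk, p.as_sum, map_sum,
    Finset.sum_mul]
  refine Submodule.sum_mem _ fun a ha => ?_
  rw [toLaur_monomial, AddMonoidAlgebra.single_mul_single, mul_one]
  refine AddMonoidAlgebra.mem_supported'.2 fun m hm => ?_
  classical
  rw [AddMonoidAlgebra.coeff_single, Finsupp.single_apply, if_neg]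
  rintro rfl
  refine hm ?_
  have hdeg : a.degree = k • g.degree := by
    by_contra hne
    exact (mem_support_iff.1 ha) (IsHomogeneous.coeff_eq_zero hp hne)
  constructor
  · rw [← map_nsmul, Finsupp.sum_add_index' (fun _ => rfl) (fun _ _ _ => rfl),
      Finsupp.sum_neg_index (fun _ => rfl), sum_castExpo]
    simp only [Finsupp.sum_neg]
    rw [sum_castExpo, map_nsmul, hdeg]
    push_cast
    ring
  · intro i hi
    rw [Finset.mem_coe, Finsupp.mem_support_iff]
    intro h0
    simp [castExpo_apply, h0] at hi
    omega

theorem exists_awayToLaur_eq {p : Laur ι R}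
    (hp : p ∈ AddMonoidAlgebra.supported R R (supp (g.support : Set ι))) :
    ∃ x, awayToLaur g x = p := by
  rw [AddMonoidAlgebra.supported_eq_span_single] at hp
  let M : AddSubgroup (Laur ι R) := (awayToLaur (R := R) g).range.toAddSubgroup
  suffices h : ∀ e ∈ supp (g.support : Set ι), ∀ r : R, AddMonoidAlgebra.single e r ∈ M by
    induction hp using Submodule.span_induction with
    | mem _ hx => obtain ⟨e, he, rfl⟩ := hx; exact h e he 1
    | zero => exact M.zero_mem
    | add _ _ _ _ ha hb => exact M.add_mem ha hb
    | smul r x _ hx =>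
      have hr : (AddMonoidAlgebra.single 0 r : Laur ι R) ∈ M :=
        h 0 ⟨rfl, fun i hi => absurd hi (by simp)⟩ r
      obtain ⟨a, ha⟩ := hr
      obtain ⟨b, hb⟩ := hx
      refine ⟨a * b, ?_⟩
      rw [map_mul, ha, hb]
      ext m
      simp
  rintro e ⟨he0, he⟩ r
  obtain ⟨k, hk⟩ : ∃ k : ℕ, ∀ i, - e i ≤ (k * g i : ℕ) := by
    refine ⟨∑ i ∈ e.support, (- e i).toNat, fun i => ?_⟩
    rcases le_or_gt 0 (e i) with h | h
    · omega
    have hi : i ∈ g.support := he i h
    have h1 : (- e i).toNat ≤ ∑ j ∈ e.support, (- e j).toNat :=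
      Finset.single_le_sum (f := fun j => (- e j).toNat) (fun j _ => Nat.zero_le _)
        (Finsupp.mem_support_iff.2 h.ne)
    have h2 : 1 ≤ g i := Nat.one_le_iff_ne_zero.2 (Finsupp.mem_support_iff.1 hi)
    have h3 := Nat.le_mul_of_pos_right (∑ j ∈ e.support, (- e j).toNat) h2
    omega
  let a : ι →₀ ℕ := (e + k • castExpo ι g).mapRange Int.toNat rfl
  have ha : castExpo ι a = e + k • castExpo ι g := by
    ext i
    have := hk i
    simp [a, castExpo_apply]
    push_cast at this
    linarith
  have hdeg : a.degree = k • g.degree := by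
    have := congrArg (fun f : Expo ι => f.sum (fun _ z => z)) ha
    rw [← map_nsmul, Finsupp.sum_add_index' (fun _ => rfl) (fun _ _ _ => rfl), sum_castExpo,
      sum_castExpo, he0, map_nsmul] at this
    simpa using Int.ofNat_inj.1 (by simpa using this)
  refine ⟨HomogeneousLocalization.Away.mk _ (monomial_mem_homogeneous g) k (monomial a r)
    (isHomogeneous_monomial _ hdeg), ?_⟩
  rw [awayToLaur_apply, HomogeneousLocalization.Away.val_mk, locToLaur_mk, toLaur_monomial,
    AddMonoidAlgebra.single_mul_single, mul_one, ha, add_neg_cancel_right]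

theorem awayToLaur_awayMap (h : ι →₀ ℕ)
    (hx : monomial (g + h) (1 : R) = monomial g (1 : R) * monomial h (1 : R))
    (y : HomogeneousLocalization.Away (homogeneousSubmodule ι R) (monomial g (1 : R))) :
    awayToLaur (R := R) (g + h) (awayMap _ (monomial_mem_homogeneous h) hx y) =
      awayToLaur g y := by
  simp only [awayToLaur_apply, val_awayMap]
  rw [← RingHom.comp_apply (locToLaur (g + h))]
  congr 1
  refine IsLocalization.ringHom_ext (Submonoid.powers (monomial g (1 : R))) ?_
  simp only [locToLaur, Localization.awayLift]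
  rw [RingHom.comp_assoc, IsLocalization.Away.lift_comp, IsLocalization.Away.lift_comp,
    IsLocalization.Away.lift_comp]

end

end Groth.Agent.PnCoh
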