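import Groth.Agent.PnCoh.TwistCech
import Groth.Agent.PnCoh.Global

/-!
# The action of the base ring on sections and cochains of `O(d)`
-/

universe u

open CategoryTheory AlgebraicGeometry MvPolynomial Opposite TopologicalSpace
open Groth.Agent.QCoh.Ab

namespace Groth.Agent.PnCoh

attribute [local instance] MvPolynomial.gradedAlgebra

variable {ι : Type} {R : Type u} [CommRing R] {d : ℤ}

/-- A constant as a global function of projective space. -/
noncomputable def constTop (ι : Type) {R : Type u} [CommRing R] (r : R) :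
    Coh.Γtop (PS ι R) :=
  Coh.toGlobal (toSpecR ι R) r

theorem secL_res_constTop {g : ι →₀ ℕ} (hg : g ≠ 0) (r : R) :
    secL g hg (Coh.resTop (PS ι R) (op (mOpen R g)) (constTop ι r)) =
      AddMonoidAlgebra.single 0 r := by
  show secL g hg (((Proj (homogeneousSubmodule ι R)).presheaf.map
    (homOfLE (le_top (a := mOpen R g))).op).hom ((toSpecR ι R).appTop.hom
      ((Scheme.ΓSpecIso (CommRingCat.of R)).inv.hom r))) = _
  rw [toSpecR_appTop_res hg, ← secL_constSec hg r]
  congr 2
  exact ConcreteCategory.congr_hom (Scheme.ΓSpecIso (CommRingCat.of R)).inv_hom_id r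

theorem single_zero_mul (r : R) (p : Laur ι R) : AddMonoidAlgebra.single 0 r * p = r • p := by
  ext e
  simp

theorem smulAb_triv {A : Type u} [CommRing A] [Algebra R A] {𝒜 : ℕ → Submodule R A}
    [GradedAlgebra 𝒜] {t : A} (ht : t ∈ 𝒜 1) (d : ℤ) (U : (Proj 𝒜).Opens)
    (hU : NonVan (𝒜 := 𝒜) t U) (r : Coh.Γtop (Proj 𝒜)) (c : Γ(Proj 𝒜, U)) :
    ((Coh.smulAb (Twist.twist 𝒜 d) r).hom.app (op U) (triv ht d hU c) :
        Twist.sectN (𝒜 := 𝒜) d (op U)) =
      triv ht d hU ((show Γ(Proj 𝒜, U) from Coh.resTop (Proj 𝒜) (op U) r) * c) :=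
  ((triv ht d hU).map_smul (show Γ(Proj 𝒜, U) from Coh.resTop (Proj 𝒜) (op U) r) c).symm

theorem secTw_smulAb {g : ι →₀ ℕ} (hg : g ≠ 0) (r : R) (f : TwSec R d g) :
    secTw d g hg (((Coh.smulAb (Twist.twist (homogeneousSubmodule ι R) d) (constTop ι r)).hom.app
      (op (mOpen R g))) f : TwSec R d g) = r • secTw d g hg f := by
  obtain ⟨c, rfl⟩ := exists_triv_eq d g hg f
  refine (congrArg (secTw d g hg) (smulAb_triv (mem_homogeneous_X (someIdx hg)) d (mOpen R g)
    (nonVan_mOpen (someIdx_mem hg)) (constTop ι r) c)).trans ?_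
  refine (secTw_triv d g hg _).trans ?_
  rw [secTw_triv, map_mul, mul_left_comm, secL_res_constTop hg r, single_zero_mul]

theorem cochainTw_smulAb {p : ℕ} (r : R) (c : TwCochain ι R d (p + 1)) (σ : Fin (p + 1) → ι) :
    cochainTw (push (Coh.smulAb (Twist.twist (homogeneousSubmodule ι R) d) (constTop ι r)).hom c) σ =
      r • cochainTw c σ :=
  secTw_smulAb (tupExp_ne_zero σ) r _

theorem globL_smulAb (r : R) (s : TwTop ι R d) (i : ι) :
    globL ((Coh.smulAb (Twist.twist (homogeneousSubmodule ι R) d) (constTop ι r)).hom.app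
      (op ⊤) s : TwTop ι R d) i = r • globL s i := by
  refine Eq.trans (congrArg (secTw d _ _) ?_)
    (secTw_smulAb (single_one_ne_zero i) r (globRes s _))
  exact congr($(((Coh.smulAb (Twist.twist (homogeneousSubmodule ι R) d)
    (constTop ι r)).hom.naturality (homOfLE (le_top (a := mOpen R (Finsupp.single i 1)))).op).symm) s)

end Groth.Agent.PnCoh
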